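import Groth.Agent.Lib.GrpdSplit13.Main
import Mathlib.AlgebraicGeometry.Morphisms.FlatMono

/-!
# Arrows with equal source and target as field-valued points
-/

set_option autoImplicit false
set_option linter.style.haveILetI false
set_option backward.isDefEq.respectTransparency false
universe u

open CategoryTheory CategoryTheory.Limits AlgebraicGeometry

namespace GrothLib.GrpdSplit13

open GrothLib.GrpSchField (cmp cmp_congr comp_cmp)

variable {S : Scheme.{u}} (G : Grpd.GroupoidScheme S)

/-- Field-valued equalities of two morphisms are seen on the residue field of the image point. -/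
theorem fromSpecResidueField_eq_of_comp {X Y Z : Scheme.{u}} (m : X ⟶ Y) (a b : Y ⟶ Z) (x : X)
    (h : X.fromSpecResidueField x ≫ m ≫ a = X.fromSpecResidueField x ≫ m ≫ b) :
    Y.fromSpecResidueField (m x) ≫ a = Y.fromSpecResidueField (m x) ≫ b := by
  haveI : Surjective (Spec.map (m.residueFieldMap x)) := ⟨fun p => ⟨IsLocalRing.closedPoint _, Subsingleton.elim _ _⟩⟩
  haveI : Flat (Spec.map (m.residueFieldMap x)) := by
    rw [Flat.SpecMap_iff]
    letI := (m.residueFieldMap x).hom.toAlgebra
    exact RingHom.flat_algebraMap_iff.mpr inferInstance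
  haveI : Epi (Spec.map (m.residueFieldMap x)) := Flat.epi_of_flat_of_surjective _
  rw [← cancel_epi (Spec.map (m.residueFieldMap x)), Scheme.Hom.SpecMap_residueFieldMap_fromSpecResidueField_assoc,
    Scheme.Hom.SpecMap_residueFieldMap_fromSpecResidueField_assoc]
  exact h

theorem comp_fromSpecResidueField_eq {X Y Z : Scheme.{u}} (m : X ⟶ Y) (a b : Y ⟶ Z) (x : X)
    (h : Y.fromSpecResidueField (m x) ≫ a = Y.fromSpecResidueField (m x) ≫ b) :
    X.fromSpecResidueField x ≫ m ≫ a = X.fromSpecResidueField x ≫ m ≫ b := by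
  rw [← Scheme.Hom.SpecMap_residueFieldMap_fromSpecResidueField_assoc,
    ← Scheme.Hom.SpecMap_residueFieldMap_fromSpecResidueField_assoc, h]

/-- The arrows over `u` in the image of the stabilizer. -/
def stabSet (u : G.U) : Set G.R :=
  {r | G.s r = u ∧ G.R.fromSpecResidueField r ≫ G.s = G.R.fromSpecResidueField r ≫ G.t}

theorem stabSet_st {u : G.U} {r : G.R} (h : r ∈ stabSet G u) : G.s r = u ∧ G.t r = u := by
  refine ⟨h.1, ?_⟩
  have := congrArg (fun k => (k : _ ⟶ G.U) (IsLocalRing.closedPoint (G.R.residueField r))) h.2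
  simp only [Scheme.Hom.comp_apply, Scheme.fromSpecResidueField_apply] at this
  rw [← this, h.1]

theorem mem_stabSet_of_stabilizer (g : ↥G.stabilizer) :
    (pullback.fst G.j G.diag : G.stabilizer ⟶ G.R) g ∈ stabSet G (G.stabilizerToU g) := by
  have e : pullback.fst G.j G.diag ≫ G.t = pullback.snd G.j G.diag ∧
      pullback.fst G.j G.diag ≫ G.s = pullback.snd G.j G.diag := by
    refine ⟨?_, ?_⟩
    · have := congrArg (· ≫ pullback.fst G.pU G.pU) (pullback.condition (f := G.j) (g := G.diag))
      simpa [Grpd.GroupoidScheme.j, Grpd.GroupoidScheme.diag] using this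
    · have := congrArg (· ≫ pullback.snd G.pU G.pU) (pullback.condition (f := G.j) (g := G.diag))
      simpa [Grpd.GroupoidScheme.j, Grpd.GroupoidScheme.diag] using this
  refine ⟨?_, fromSpecResidueField_eq_of_comp (pullback.fst G.j G.diag) G.s G.t g (by rw [e.1, e.2])⟩
  rw [← Scheme.Hom.comp_apply, e.2]
  rfl

theorem exists_stabilizer_of_mem {u : G.U} {r : G.R} (h : r ∈ stabSet G u) :
    ∃ g : ↥G.stabilizer, G.stabilizerToU g = u ∧ (pullback.fst G.j G.diag : G.stabilizer ⟶ G.R) g = r := by
  let x := G.R.fromSpecResidueField r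
  let l : Spec (G.R.residueField r) ⟶ pullback G.j G.diag := pullback.lift x (x ≫ G.s) (by
    apply pullback.hom_ext
    · simp only [Grpd.GroupoidScheme.j, Grpd.GroupoidScheme.diag, Category.assoc, pullback.lift_fst, Category.comp_id]
      exact h.2.symm
    · simp only [Grpd.GroupoidScheme.j, Grpd.GroupoidScheme.diag, Category.assoc, pullback.lift_snd, Category.comp_id])
  refine ⟨l (IsLocalRing.closedPoint (G.R.residueField r)), ?_, ?_⟩
  · show pullback.snd G.j G.diag (l _) = u
    rw [← Scheme.Hom.comp_apply, pullback.lift_snd, Scheme.Hom.comp_apply, Scheme.fromSpecResidueField_apply]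
    exact h.1
  · show pullback.fst G.j G.diag (l _) = r
    rw [← Scheme.Hom.comp_apply, pullback.lift_fst, Scheme.fromSpecResidueField_apply]

theorem e_mem_stabSet (u : G.U) : G.e u ∈ stabSet G u := by
  refine ⟨by rw [← Scheme.Hom.comp_apply, G.e_s]; rfl, ?_⟩
  exact fromSpecResidueField_eq_of_comp G.e G.s G.t u (by rw [G.e_s, G.e_t])

theorem i_mem_stabSet {u : G.U} {r : G.R} (h : r ∈ stabSet G u) : G.i r ∈ stabSet G u := by
  refine ⟨by rw [← Scheme.Hom.comp_apply, G.i_s]; exact (stabSet_st G h).2, ?_⟩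
  exact fromSpecResidueField_eq_of_comp G.i G.s G.t r (by rw [G.i_s, G.i_t]; exact h.2.symm)

theorem c_s : G.c ≫ G.s = pullback.snd G.s G.t ≫ G.s := by
  have := G.comp_s (pullback.fst G.s G.t) (pullback.snd G.s G.t) pullback.condition
  rwa [show pullback.lift (pullback.fst G.s G.t) (pullback.snd G.s G.t) pullback.condition = 𝟙 _ from
    pullback.hom_ext (by simp) (by simp), Category.id_comp] at this

theorem c_t : G.c ≫ G.t = pullback.fst G.s G.t ≫ G.t := by
  have := G.comp_t (pullback.fst G.s G.t) (pullback.snd G.s G.t) pullback.condition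
  rwa [show pullback.lift (pullback.fst G.s G.t) (pullback.snd G.s G.t) pullback.condition = 𝟙 _ from
    pullback.hom_ext (by simp) (by simp), Category.id_comp] at this

theorem c_mem_stabSet {u : G.U} (z : ↥(pullback G.s G.t)) (h₁ : pullback.fst G.s G.t z ∈ stabSet G u)
    (h₂ : pullback.snd G.s G.t z ∈ stabSet G u) : G.c z ∈ stabSet G u := by
  refine ⟨by rw [← Scheme.Hom.comp_apply, c_s, Scheme.Hom.comp_apply]; exact h₂.1, ?_⟩
  refine fromSpecResidueField_eq_of_comp G.c G.s G.t z ?_
  rw [c_s, c_t, ← comp_fromSpecResidueField_eq (pullback.fst G.s G.t) G.s G.t z h₁.2, pullback.condition]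
  exact comp_fromSpecResidueField_eq (pullback.snd G.s G.t) G.s G.t z h₂.2

end GrothLib.GrpdSplit13

namespace GrothLib.GrpdSplit13

open GrothLib.GrpSchField (cmp cmp_congr comp_cmp)

variable {S : Scheme.{u}} (G : Grpd.GroupoidScheme S)

theorem e_i : G.e ≫ G.i = G.e := by
  have h : G.e ≫ G.s = (G.e ≫ G.i) ≫ G.t := by rw [Category.assoc, G.i_t]
  have h1 : cmp G G.e (G.e ≫ G.i) h = G.e ≫ G.t ≫ G.e := G.comp_i G.e
  rw [reassoc_of% G.e_t] at h1
  have h2 : cmp G G.e (G.e ≫ G.i) h = G.e ≫ G.i :=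
    GrpdQuot.cmp_eq_right G h (by rw [Category.assoc, reassoc_of% G.i_t, reassoc_of% G.e_s])
  exact h2.symm.trans h1

theorem residueFieldMap_bijective_section {X Y : Scheme.{u}} (σ : Y ⟶ X) (f : X ⟶ Y) (h : σ ≫ f = 𝟙 Y) (y : Y) :
    Function.Bijective (f.residueFieldMap (σ y)) := by
  have h' : Function.Bijective ((σ ≫ f).residueFieldMap y) := by
    rw [h]; exact (ConcreteCategory.isIso_iff_bijective _).mp inferInstance
  rw [Scheme.residueFieldMap_comp] at h'
  exact ⟨fun a b hab => h'.1 (congrArg (σ.residueFieldMap y) hab), fun a => by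
    obtain ⟨b, hb⟩ := h'.2 (σ.residueFieldMap y a)
    exact ⟨b, (σ.residueFieldMap y).hom.injective hb⟩⟩

theorem c_e_e (u : G.U) (z : ↥(pullback G.s G.t)) (h₁ : pullback.fst G.s G.t z = G.e u)
    (h₂ : pullback.snd G.s G.t z = G.e u) : G.c z = G.e u := by
  have hs : G.s (G.e u) = u := by rw [← Scheme.Hom.comp_apply, G.e_s]; rfl
  have ht : G.t (G.e u) = u := by rw [← Scheme.Hom.comp_apply, G.e_t]; rfl
  obtain ⟨w, -, -, huniq⟩ := Weight.existsUnique_point_over G.s G.t (G.e u)
    (residueFieldMap_bijective_section G.e G.t G.e_t u) (G.e u) (hs.trans ht.symm)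
  let d : G.U ⟶ pullback G.s G.t := pullback.lift G.e G.e (G.e_s.trans G.e_t.symm)
  have hd : z = d u := (huniq z h₁ h₂).trans (huniq (d u) (by rw [← Scheme.Hom.comp_apply, pullback.lift_fst])
    (by rw [← Scheme.Hom.comp_apply, pullback.lift_snd])).symm
  rw [hd, ← Scheme.Hom.comp_apply]
  have : d ≫ G.c = G.e :=
    GrpdQuot.cmp_eq_left G (G.e_s.trans G.e_t.symm) (by rw [reassoc_of% G.e_s])
  rw [this]

end GrothLib.GrpdSplit13
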