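import Groth.Agent.Lib.GrpdSplit13.Fam
import Groth.Agent.Lib.GrpdFin13.Main
import Groth.Agent.Lib.GrpdQuot.FiniteAffine
import Groth.Agent.Lib.FppfSource.Scheme

/-!
# An étale chart of the space of open finite parts
-/

set_option autoImplicit false
set_option linter.style.haveILetI false
set_option backward.isDefEq.respectTransparency false
universe u

open CategoryTheory CategoryTheory.Limits AlgebraicGeometry

namespace GrothLib.GrpdSplit13

variable {X B : Scheme.{u}} (s : X ⟶ B)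

/-- An étale neighbourhood with a universal finite part extending a finite set of the fibre. -/
structure Chart (H : Set X) (b₀ : B) where
  V : Scheme.{u}
  q : V ⟶ B
  v : V
  etale : Etale q
  sep : IsSeparated q
  base_eq : q v = b₀
  residue_bijective : Function.Bijective (q.residueFieldMap v)
  Z : (pullback s q).Opens
  finite : IsFinite (Z.ι ≫ pullback.snd s q)
  fibre : ∀ z, pullback.snd s q z = v → (z ∈ Z ↔ pullback.fst s q z ∈ H)
  uniq : ∀ {T : Scheme.{u}} {a : T ⟶ B} (b b' : T ⟶ V) (h : b ≫ q = a) (h' : b' ≫ q = a),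
    pre s q Z b h = pre s q Z b' h' → b = b'
  classify : ∀ {T : Scheme.{u}} (a : T ⟶ B) (W : (pullback s a).Opens), IsFinite (W.ι ≫ pullback.snd s a) →
    ∃ (G : T.Opens) (τ : G.toScheme ⟶ V) (hτ : τ ≫ q = G.ι ≫ a),
      pre s q Z τ hτ = pre s a W G.ι rfl ∧
      ∀ {T' : Scheme.{u}} (c : T' ⟶ T) (b : T' ⟶ V) (h : b ≫ q = c ≫ a),
        pre s q Z b h = pre s a W c rfl → Set.range c ⊆ G

variable [Flat s] [LocallyOfFinitePresentation s] [IsSeparated s]

theorem exists_nbhd [IsAffine B] (b₀ : B) (H : Set X) (hfin : H.Finite)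
    (hH : ∀ x ∈ H, s x = b₀ ∧ s.QuasiFiniteAt x) :
    ∃ (Ω : X.Opens) (_ : IsAffineOpen Ω) (d : ℕ) (U₁ : Scheme.{u}) (g : U₁ ⟶ B) (u₁ : U₁)
      (_ : Hens2.IsEtaleNbhd g u₁ b₀) (Z₁ : (pullback s g).Opens), IsFam s Ω d g Z₁ ∧
      ∀ z, pullback.snd s g z = u₁ → (z ∈ Z₁ ↔ pullback.fst s g z ∈ H) := by
  classical
  let W := s.quasiFiniteLocus
  obtain ⟨Ω₀, hΩ₀, hHΩ₀⟩ := GrpdQuot.exists_affineOpen_of_finite (W.ι ≫ s) (W.ι ⁻¹' H)
    (hfin.preimage W.ι.isOpenEmbedding.injective.injOn)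
  let Ω := W.ι ''ᵁ Ω₀
  have hHΩ : ∀ x ∈ H, x ∈ Ω := fun x hx => ⟨⟨x, (hH x hx).2⟩, hHΩ₀ (by exact hx), rfl⟩
  obtain ⟨U₀, g₀, u₀, ⟨he₀, hgu₀, hgb₀⟩, hparts⟩ := Weight.exists_finite_parts (f := s) b₀
    (fun x : H => (x : X)) (fun x => (hH _ x.2).1) (fun x => (hH _ x.2).2) (haveI := hfin.fintype; Finset.univ)
  obtain ⟨Z₀, hZ₀⟩ := GrpdFin13.exists_part s g₀ u₀ hgb₀ H hfin fun x hx =>
    ⟨(hH x hx).1.trans hgu₀.symm, hparts ⟨x, hx⟩ (by simp)⟩
  let d := (Z₀.ι ≫ pullback.snd s g₀).finrank u₀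
  obtain ⟨T₀, hT₀⟩ := exists_locus s d Ω hZ₀.finite
  have hu₀ : u₀ ∈ T₀ := (hT₀ u₀).2 ⟨rfl, fun z hz hzu => hHΩ _ ((hZ₀.fibre z hzu).1 hz)⟩
  haveI := he₀
  refine ⟨Ω, hΩ₀.image_of_isOpenImmersion W.ι, d, T₀, T₀.ι ≫ g₀, ⟨u₀, hu₀⟩,
    ⟨inferInstance, hgu₀, ?_⟩, pre s g₀ Z₀ T₀.ι rfl,
    isFam_pre_of_range s d Ω hZ₀.finite T₀.ι rfl fun t => (hT₀ _).1 t.2, fun z hz => ?_⟩
  · have hiso : ∀ x : ↥(T₀ : Scheme.{u}), IsIso (T₀.ι.residueFieldMap x) := fun x => inferInstance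
    exact Weight.residueFieldMap_bijective_of_comp _ _ _
      ((ConcreteCategory.isIso_iff_bijective _).mp (hiso ⟨u₀, hu₀⟩)) hgb₀
  · show bmap s g₀ T₀.ι rfl z ∈ Z₀ ↔ _
    rw [hZ₀.fibre _ (by rw [← Scheme.Hom.comp_apply, pullback.lift_snd, Scheme.Hom.comp_apply, hz]; rfl),
      ← Scheme.Hom.comp_apply, pullback.lift_fst]

theorem exists_chart [IsAffine B] (b₀ : B) (H : Set X) (hfin : H.Finite)
    (hH : ∀ x ∈ H, s x = b₀ ∧ s.QuasiFiniteAt x) : Nonempty (Chart s H b₀) := by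
  obtain ⟨Ω, hΩ, d, U₁, g, u₁, ⟨hge, hgu, hgb⟩, Z₁, hZ₁, hfib⟩ := exists_nbhd s b₀ H hfin hH
  haveI := hge
  haveI : IsAffine (Ω : Scheme.{u}) := hΩ
  haveI : IsAffineHom (Ω.ι ≫ s) := isAffineHom_of_isAffine _
  obtain ⟨Hs, 𝒵, hU⟩ := Hilb26.representable_of_isAffineHom (Ω.ι ≫ s) d
  haveI : IsSeparated Hs.hom := Hilb26.isSeparated_of_isUniversal (Ω.ι ≫ s) d hU
  have key : ∀ {T : Over B} (b b' : T ⟶ Hs) (Z : (pullback s T.hom).Opens),
      Cuts s d Ω ⟨HilbD.pull _ b 𝒵.1, HilbFun.isFinLocFreeOfDeg_pull _ b 𝒵.2⟩ Z →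
      Cuts s d Ω ⟨HilbD.pull _ b' 𝒵.1, HilbFun.isFinLocFreeOfDeg_pull _ b' 𝒵.2⟩ Z → b = b' :=
    fun b b' Z hb hb' => (hU _ ⟨_, HilbFun.isFinLocFreeOfDeg_pull _ b' 𝒵.2⟩).unique
      (congrArg Subtype.val (hb.unique s Ω hb')) rfl
  obtain ⟨I₁, hI₁⟩ := exists_cuts s Ω (T := Over.mk g) hZ₁
  obtain ⟨φ, hφ, -⟩ := hU _ I₁
  have hφI : Cuts s d Ω ⟨HilbD.pull _ φ 𝒵.1, HilbFun.isFinLocFreeOfDeg_pull _ φ 𝒵.2⟩ Z₁ := by
    rwa [show (⟨HilbD.pull _ φ 𝒵.1, HilbFun.isFinLocFreeOfDeg_pull _ φ 𝒵.2⟩ : HilbD.Obj _ d _) = I₁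
      from Subtype.ext hφ]
  have hφw : φ.left ≫ Hs.hom = g := Over.w φ
  -- the graph of `φ` is open
  let T₂ : Over B := Over.mk (pullback.fst g Hs.hom ≫ g)
  let prA : T₂ ⟶ Over.mk g := Over.homMk (pullback.fst g Hs.hom) rfl
  let prH : T₂ ⟶ Hs := Over.homMk (pullback.snd g Hs.hom) pullback.condition.symm
  let 𝒵₂ : HilbD.Obj (Ω.ι ≫ s) d T₂ := ⟨HilbD.pull _ prH 𝒵.1, HilbFun.isFinLocFreeOfDeg_pull _ prH 𝒵.2⟩
  let Z₂ : (pullback s T₂.hom).Opens := pre s g Z₁ prA.left (Over.w prA)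
  let π₂ := 𝒵₂.1.subschemeι ≫ PicF.XTproj (Ω.ι ≫ s) T₂
  let bad : Set 𝒵₂.1.subscheme := {z | (𝒵₂.1.subschemeι ≫ kmap s Ω T₂.hom) z ∉ Z₂}
  have hbad : IsClosed (π₂ '' bad) := by
    haveI : IsFinite π₂ := 𝒵₂.2.1.1
    exact π₂.isClosedMap _ (Z₂.isOpen.isClosed_compl.preimage (𝒵₂.1.subschemeι ≫ kmap s Ω T₂.hom).continuous)
  let W : T₂.left.Opens := ⟨(π₂ '' bad)ᶜ, hbad.isOpen_compl⟩
  let wι : Over.mk (W.ι ≫ T₂.hom) ⟶ T₂ := Over.homMk W.ι rfl
  have hWeq : wι ≫ prH = (wι ≫ prA) ≫ φ := by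
    refine key _ _ (pre s g Z₁ (wι ≫ prA).left (Over.w (wι ≫ prA))) ?_ ?_
    · refine Cuts.of_range_subset s Ω _ _ (hI₁.pull s Ω (wι ≫ prA)) ?_
      show Set.range ((HilbD.pull _ (wι ≫ prH) 𝒵.1).subschemeι ≫ kmap s Ω _) ⊆ _
      rw [← HilbFun.pull_pull]
      obtain ⟨e, he⟩ := subschemeι_pull s Ω wι 𝒵₂.1
      rintro _ ⟨z, rfl⟩
      have h1 : bmap s T₂.hom W.ι rfl (((HilbD.pull _ wι 𝒵₂.1).subschemeι ≫ kmap s Ω _) z) =
          (𝒵₂.1.subschemeι ≫ kmap s Ω T₂.hom) (e z) := by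
        exact congrArg (fun m => (m : _ ⟶ pullback s T₂.hom) z) he.w.symm
      have h2 : e z ∉ bad := by
        intro hb
        have : π₂ (e z) ∈ W := by
          have e2 : e ≫ π₂ = (HilbD.pull _ wι 𝒵₂.1).subschemeι ≫ PicF.XTproj _ _ ≫ W.ι := by
            have := congrArg (· ≫ pullback.snd s T₂.hom) he.w
            simp only [Category.assoc, pullback.lift_snd, pullback.lift_snd_assoc, Category.comp_id] at this
            exact this
          rw [← Scheme.Hom.comp_apply, e2, Scheme.Hom.comp_apply, Scheme.Hom.comp_apply]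
          exact ((PicF.XTproj (Ω.ι ≫ s) (Over.mk (W.ι ≫ T₂.hom))) _).2
        exact this ⟨_, hb, rfl⟩
      have h3 := not_not.1 h2
      rw [← h1] at h3
      have h4 := congrArg (fun m => (m : _ ⟶ pullback s g) (((HilbD.pull _ wι 𝒵₂.1).subschemeι ≫ kmap s Ω _) z))
        (bmap_comp s g W.ι (a := T₂.hom) (a' := W.ι ≫ T₂.hom) rfl prA.left (Over.w prA))
      show (bmap s g (W.ι ≫ prA.left) _ : _ ⟶ pullback s g) _ ∈ Z₁
      exact (congrArg (· ∈ Z₁) h4).mp (h3 : bmap s g prA.left (Over.w prA) _ ∈ Z₁)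
    · have := hφI.pull s Ω (wι ≫ prA)
      simp only [HilbFun.pull_pull] at this
      exact this
  let ψ₀ : U₁ ⟶ pullback g Hs.hom := pullback.lift (𝟙 U₁) φ.left ((Category.id_comp g).trans hφw.symm)
  have hψ₀fst : ψ₀ ≫ pullback.fst g Hs.hom = 𝟙 U₁ := pullback.lift_fst _ _ _
  have hψ₀snd : ψ₀ ≫ pullback.snd g Hs.hom = φ.left := pullback.lift_snd _ _ _
  let ψ : Over.mk g ⟶ T₂ := Over.homMk ψ₀
    (by show ψ₀ ≫ pullback.fst g Hs.hom ≫ g = g; rw [reassoc_of% hψ₀fst])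
  have hψA : ψ ≫ prA = 𝟙 _ := by ext1; exact hψ₀fst
  have hψH : ψ ≫ prH = φ := by ext1; exact hψ₀snd
  have hψW : Set.range ψ.left ⊆ (W : Set T₂.left) := by
    rintro _ ⟨t, rfl⟩ ⟨z, hz, hzt⟩
    obtain ⟨e, he⟩ := subschemeι_pull s Ω ψ 𝒵₂.1
    obtain ⟨y, -, hy⟩ := Scheme.Pullback.exists_preimage_pullback
      (f := pullback.snd s T₂.hom) (g := ψ.left) ((𝒵₂.1.subschemeι ≫ kmap s Ω T₂.hom) z) t (by
        rw [← hzt, ← Scheme.Hom.comp_apply, Category.assoc, pullback.lift_snd, Category.comp_id])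
    obtain ⟨y', hy₁, hy₂⟩ : ∃ y', pullback.snd s _ y' = t ∧
        bmap s T₂.hom ψ.left (Over.w ψ) y' = (𝒵₂.1.subschemeι ≫ kmap s Ω T₂.hom) z := by
      have P := isPullback_bmap s T₂.hom ψ.left (Over.w ψ)
      obtain ⟨y₀, hy₀₁, hy₀₂⟩ := Scheme.Pullback.exists_preimage_pullback
        (f := pullback.snd s T₂.hom) (g := ψ.left) ((𝒵₂.1.subschemeι ≫ kmap s Ω T₂.hom) z) t (by
          rw [← hzt, ← Scheme.Hom.comp_apply, Category.assoc, pullback.lift_snd, Category.comp_id])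
      exact ⟨P.isoPullback.inv y₀, by rw [← Scheme.Hom.comp_apply, IsPullback.isoPullback_inv_snd, hy₀₂],
        by rw [← Scheme.Hom.comp_apply, IsPullback.isoPullback_inv_fst, hy₀₁]⟩
    obtain ⟨z', hz'₁, hz'₂⟩ := Scheme.Pullback.exists_preimage_pullback z y' hy₂.symm
    have hmem : y' ∈ Z₁ := by
      rw [hφI.mem_iff s Ω]
      show y' ∈ Set.range ((HilbD.pull _ φ 𝒵.1).subschemeι ≫ _)
      rw [← hψH, ← HilbFun.pull_pull]
      exact ⟨he.isoPullback.inv z', by rw [← Scheme.Hom.comp_apply, IsPullback.isoPullback_inv_snd, hz'₂]⟩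
    refine hz ?_
    show bmap s g prA.left (Over.w prA) ((𝒵₂.1.subschemeι ≫ kmap s Ω T₂.hom) z) ∈ Z₁
    rw [← hy₂, ← Scheme.Hom.comp_apply, bmap_comp,
      show bmap s g (ψ.left ≫ prA.left) _ = 𝟙 _ by
        apply pullback.hom_ext
        · rw [pullback.lift_fst, Category.id_comp]
        · rw [pullback.lift_snd, Category.id_comp, ← Over.comp_left, hψA]; exact Category.comp_id _]
    exact hmem
  let ψ' : U₁ ⟶ W.toScheme := IsOpenImmersion.lift W.ι ψ.left (by rwa [Scheme.Opens.range_ι])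
  have hψ' : ψ' ≫ W.ι = ψ.left := IsOpenImmersion.lift_fac _ _ _
  haveI : IsIso ψ' := by
    refine ⟨W.ι ≫ pullback.fst g Hs.hom, ?_, ?_⟩
    · rw [← Category.assoc, hψ']; exact pullback.lift_fst _ _ _
    · rw [← cancel_mono W.ι, Category.assoc, hψ', Category.id_comp]
      apply pullback.hom_ext
      · show (W.ι ≫ pullback.fst g Hs.hom) ≫ ψ₀ ≫ pullback.fst g Hs.hom = _
        rw [hψ₀fst, Category.comp_id]
      · show (W.ι ≫ pullback.fst g Hs.hom) ≫ ψ₀ ≫ pullback.snd g Hs.hom = _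
        rw [hψ₀snd]
        exact (congrArg CategoryTheory.Over.Hom.left hWeq).symm
  haveI hψo : IsOpenImmersion ψ.left := by rw [← hψ']; infer_instance
  haveI hφe : Etale φ.left := by
    rw [← hψH]
    show Etale (ψ.left ≫ pullback.snd g Hs.hom)
    infer_instance
  -- the chart
  let V : Hs.left.Opens := ⟨Set.range φ.left, φ.left.isOpenMap.isOpen_range⟩
  let q := V.ι ≫ Hs.hom
  let φ' : U₁ ⟶ V.toScheme := IsOpenImmersion.lift V.ι φ.left (by rw [Scheme.Opens.range_ι]; rfl)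
  have hφ' : φ' ≫ V.ι = φ.left := IsOpenImmersion.lift_fac _ _ _
  have hφq : φ' ≫ q = g := by rw [← Category.assoc, hφ', hφw]
  haveI : Etale (φ' ≫ V.ι) := by rw [hφ']; infer_instance
  haveI : Etale φ' := Etale.of_comp φ' V.ι
  haveI : Surjective φ' := ⟨fun x => by
    obtain ⟨y, hy⟩ := x.2
    exact ⟨y, V.ι.isOpenEmbedding.injective ((congrArg (fun m => (m : _ ⟶ Hs.left) y) hφ').trans hy)⟩⟩
  haveI : LocallyOfFinitePresentation q :=
    FppfSource.fppfSourceDescends_lfp φ' q inferInstance inferInstance inferInstance (by rw [hφq]; infer_instance)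
  haveI : Smooth q :=
    FppfSource.fppfSourceDescends_smooth φ' q inferInstance inferInstance inferInstance (by rw [hφq]; infer_instance)
  have hψV : IsOpenImmersion (pullback.lift (f := g) (g := q) (𝟙 U₁) φ' (by rw [Category.id_comp, hφq])) := by
    let ι' : pullback g q ⟶ pullback g Hs.hom :=
      pullback.map g q g Hs.hom (𝟙 _) V.ι (𝟙 _) (by simp) (by simp [q])
    haveI : IsOpenImmersion (pullback.lift (f := g) (g := q) (𝟙 U₁) φ' (by rw [Category.id_comp, hφq]) ≫ ι') := by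
      rw [show pullback.lift (f := g) (g := q) (𝟙 U₁) φ' (by rw [Category.id_comp, hφq]) ≫ ι' = ψ.left by
        apply pullback.hom_ext
        · simp only [ι', Category.assoc, pullback.lift_fst, pullback.lift_fst_assoc, Category.comp_id]
          exact (pullback.lift_fst _ _ _).symm
        · simp only [ι', Category.assoc, pullback.lift_snd, pullback.lift_snd_assoc, hφ']
          exact (pullback.lift_snd _ _ _).symm]
      infer_instance
    exact IsOpenImmersion.of_comp _ ι'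
  haveI : IsOpenImmersion (pullback.diagonal q) := by
    haveI := hψV
    let m : pullback g g ⟶ pullback g q :=
      pullback.lift (pullback.fst g g) (pullback.snd g g ≫ φ') (by rw [Category.assoc, hφq, pullback.condition])
    let n : pullback g g ⟶ pullback q q :=
      pullback.lift (pullback.fst g g ≫ φ') (pullback.snd g g ≫ φ')
        (by rw [Category.assoc, Category.assoc, hφq, pullback.condition])
    let P := pullback φ' φ'
    let k : P ⟶ pullback g g := pullback.lift (pullback.fst φ' φ') (pullback.snd φ' φ')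
      (by rw [← hφq, reassoc_of% pullback.condition (f := φ') (g := φ')])
    have h1 : IsPullback k (pullback.fst φ' φ') m (pullback.lift (f := g) (g := q) (𝟙 U₁) φ' (by rw [Category.id_comp, hφq])) := by
      refine IsPullback.mk' ?_ (fun T x x' hk hf => ?_) fun T a b hab => ?_
      · apply pullback.hom_ext <;> simp [k, m, pullback.condition]
      · refine pullback.hom_ext hf ?_
        simpa [k] using congrArg (· ≫ pullback.snd g g) hk
      · have e1 := congrArg (· ≫ pullback.fst g q) hab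
        have e2 := congrArg (· ≫ pullback.snd g q) hab
        simp only [m, Category.assoc, pullback.lift_fst, pullback.lift_snd, Category.comp_id] at e1 e2
        refine ⟨pullback.lift b (a ≫ pullback.snd g g) (by rw [Category.assoc, e2]), ?_, pullback.lift_fst _ _ _⟩
        apply pullback.hom_ext
        · simp [k, e1]
        · simp [k]
    haveI : IsOpenImmersion k := MorphismProperty.of_isPullback h1.flip hψV
    have h2 : IsPullback k (pullback.fst φ' φ' ≫ φ') n (pullback.diagonal q) := by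
      refine IsPullback.mk' ?_ (fun T x x' hk _ => (cancel_mono k).1 hk) fun T a b hab => ?_
      · apply pullback.hom_ext <;> simp [k, n, pullback.condition]
      · have e1 := congrArg (· ≫ pullback.fst q q) hab
        have e2 := congrArg (· ≫ pullback.snd q q) hab
        simp only [n, Category.assoc, pullback.lift_fst, pullback.lift_snd, pullback.diagonal_fst,
          pullback.diagonal_snd, Category.comp_id] at e1 e2
        refine ⟨pullback.lift (a ≫ pullback.fst g g) (a ≫ pullback.snd g g)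
          (by rw [Category.assoc, Category.assoc, e1, e2]), ?_, ?_⟩
        · apply pullback.hom_ext <;> simp [k]
        · rw [pullback.lift_fst_assoc, Category.assoc, e1]
    have hn : n = pullback.map g g q q φ' φ' (𝟙 B) (by rw [Category.comp_id, hφq]) (by rw [Category.comp_id, hφq]) := rfl
    have hQ : (@Surjective ⊓ @Flat ⊓ @LocallyOfFinitePresentation : MorphismProperty Scheme.{u}) n := by
      let n₁ : pullback g g ⟶ pullback g q := pullback.map g g g q (𝟙 _) φ' (𝟙 B) (by simp) (by rw [Category.comp_id, hφq])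
      let n₂ : pullback g q ⟶ pullback q q := pullback.map g q q q φ' (𝟙 _) (𝟙 B) (by rw [Category.comp_id, hφq]) (by simp)
      have hn12 : n = n₁ ≫ n₂ := by
        apply pullback.hom_ext <;> simp [n, n₁, n₂]
      have hp₁ : IsPullback n₁ (pullback.snd g g) (pullback.snd g q) φ' := by
        refine IsPullback.of_right ?_ (pullback.lift_snd _ _ _) (IsPullback.of_hasPullback g q)
        rw [pullback.lift_fst, Category.comp_id, hφq]
        exact IsPullback.of_hasPullback g g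
      have hp₂ : IsPullback n₂ (pullback.fst g q) (pullback.fst q q) φ' := by
        refine IsPullback.of_right ?_ (pullback.lift_fst _ _ _) (IsPullback.of_hasPullback q q).flip
        rw [pullback.lift_snd, Category.comp_id, hφq]
        exact (IsPullback.of_hasPullback g q).flip
      haveI : Surjective n₁ := MorphismProperty.of_isPullback hp₁.flip ‹Surjective φ'›
      haveI : Surjective n₂ := MorphismProperty.of_isPullback hp₂.flip ‹Surjective φ'›
      haveI : Etale n₁ := MorphismProperty.of_isPullback hp₁.flip ‹Etale φ'›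
      haveI : Etale n₂ := MorphismProperty.of_isPullback hp₂.flip ‹Etale φ'›
      rw [hn12]
      exact ⟨⟨inferInstance, inferInstance⟩, inferInstance⟩
    exact MorphismProperty.of_isPullback_of_descendsAlong h2 hQ (inferInstance : IsOpenImmersion k)
  haveI : Etale q := Etale.iff_flat_and_formallyUnramified.2 ⟨inferInstance, inferInstance, inferInstance⟩
  let v := φ' u₁
  have hv : Function.Bijective (q.residueFieldMap v) := by
    have h : Function.Bijective ((φ' ≫ q).residueFieldMap u₁) := by rw [hφq]; exact hgb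
    rw [Scheme.residueFieldMap_comp] at h
    exact ⟨fun a b hab => h.1 (congrArg (φ'.residueFieldMap u₁) hab), fun y => by
      obtain ⟨a, ha⟩ := h.2 (φ'.residueFieldMap u₁ y)
      exact ⟨a, (φ'.residueFieldMap u₁).hom.injective ha⟩⟩
  let ιV : Over.mk q ⟶ Hs := Over.homMk V.ι rfl
  let φV : Over.mk g ⟶ Over.mk q := Over.homMk φ' hφq
  have hφV : φV ≫ ιV = φ := by ext1; exact hφ'
  let IV : HilbD.Obj (Ω.ι ≫ s) d (Over.mk q) := ⟨HilbD.pull _ ιV 𝒵.1, HilbFun.isFinLocFreeOfDeg_pull _ ιV 𝒵.2⟩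
  have hIV : (⟨HilbD.pull _ φV IV.1, HilbFun.isFinLocFreeOfDeg_pull _ φV IV.2⟩ : HilbD.Obj _ d _) = I₁ :=
    Subtype.ext (by rw [← hφ, ← hφV]; exact HilbFun.pull_pull _ _ _ _)
  haveI : IsOpenImmersion (IV.1.subschemeι ≫ kmap s Ω (Over.mk q).hom) := by
    obtain ⟨e, he⟩ := subschemeι_pull s Ω φV IV.1
    have h1 := hI₁.isOpenImmersion s Ω
    rw [← hIV] at h1
    refine MorphismProperty.of_isPullback_of_descendsAlong (Q := @Surjective ⊓ @Flat ⊓ @LocallyOfFinitePresentation)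
      he.flip ?_ h1
    have P := isPullback_bmap s q φ' hφq
    haveI : Surjective (bmap s q φ' hφq) := MorphismProperty.of_isPullback P.flip ‹Surjective φ'›
    haveI : Etale (bmap s q φ' hφq) := MorphismProperty.of_isPullback P.flip ‹Etale φ'›
    exact ⟨⟨(inferInstance : Surjective (bmap s q φ' hφq)), (inferInstance : Flat (bmap s q φ' hφq))⟩,
      (inferInstance : LocallyOfFinitePresentation (bmap s q φ' hφq))⟩
  have hcV := cuts_opensRange s Ω IV
  generalize hZdef : (IV.1.subschemeι ≫ kmap s Ω (Over.mk q).hom).opensRange = Z at hcV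
  have hpull : ∀ {T : Scheme.{u}} {a : T ⟶ B} (b : T ⟶ V.toScheme) (h : b ≫ q = a),
      Cuts s d Ω ⟨HilbD.pull _ ((Over.homMk b h : Over.mk a ⟶ Over.mk q) ≫ ιV) 𝒵.1,
        HilbFun.isFinLocFreeOfDeg_pull _ _ 𝒵.2⟩ (pre s q Z b h) := fun b h => by
    have := hcV.pull s Ω (Over.homMk b h : Over.mk _ ⟶ Over.mk q)
    simp only [IV, HilbFun.pull_pull] at this
    exact this
  refine ⟨⟨V, q, v, inferInstance, inferInstance, ?_, hv, Z, (hcV.isFam s Ω).1, fun z hz => ?_,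
    fun {T a} b b' h h' e => ?_, fun {T} a W' hW' => ?_⟩⟩
  · rw [← Scheme.Hom.comp_apply, hφq, hgu]
  · have hc1 : Cuts s d Ω I₁ (pre s q Z φ' hφq) := hIV ▸ hcV.pull s Ω φV
    have hZeq : pre s q Z φ' hφq = Z₁ := hc1.eq s Ω hI₁
    have hbase : s (pullback.fst s q z) = g u₁ := by
      rw [← Scheme.Hom.comp_apply, pullback.condition, Scheme.Hom.comp_apply, hz, ← Scheme.Hom.comp_apply, hφq]
    obtain ⟨z₁, ⟨hz₁, hz₁'⟩, -, -⟩ := Weight.existsUnique_point_over s g u₁ hgb _ hbase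
    have hb : s (pullback.fst s q z) = q v := by
      rw [← Scheme.Hom.comp_apply, pullback.condition, Scheme.Hom.comp_apply, hz]
    obtain ⟨w, -, -, huniq⟩ := Weight.existsUnique_point_over s q v hv _ hb
    have hzz : bmap s q φ' hφq z₁ = z := (huniq _ (by rw [← Scheme.Hom.comp_apply, pullback.lift_fst, hz₁])
      (by rw [← Scheme.Hom.comp_apply, pullback.lift_snd, Scheme.Hom.comp_apply, hz₁'])).trans
      (huniq z rfl hz).symm
    rw [← hz₁, ← hfib z₁ hz₁', ← hZeq, ← hzz]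
    rfl
  · have h1 := hpull b h
    have h2 := hpull b' h'
    rw [← e] at h2
    exact (cancel_mono V.ι).1 (congrArg CategoryTheory.Over.Hom.left (key _ _ _ h1 h2))
  · obtain ⟨T₀, hT₀⟩ := exists_locus s d Ω hW'
    have hfam := isFam_pre_of_range s d Ω hW' T₀.ι (rfl : T₀.ι ≫ a = _) fun t => (hT₀ _).1 t.2
    obtain ⟨I₀, hI₀⟩ := exists_cuts s Ω (T := Over.mk (T₀.ι ≫ a)) hfam
    obtain ⟨β, hβ, -⟩ := hU _ I₀
    have hβI : Cuts s d Ω ⟨HilbD.pull _ β 𝒵.1, HilbFun.isFinLocFreeOfDeg_pull _ β 𝒵.2⟩ (pre s a W' T₀.ι rfl) := by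
      rwa [show (⟨HilbD.pull _ β 𝒵.1, HilbFun.isFinLocFreeOfDeg_pull _ β 𝒵.2⟩ : HilbD.Obj _ d _) = I₀
        from Subtype.ext hβ]
    let G : T.Opens := T₀.ι ''ᵁ (β.left ⁻¹ᵁ V)
    have hG : ∀ t ∈ G, t ∈ T₀ := fun t ⟨x, _, hx⟩ => hx ▸ x.2
    let c₀ : G.toScheme ⟶ T₀.toScheme := T.homOfLE hG
    have hc₀ : c₀ ≫ T₀.ι = G.ι := T.homOfLE_ι hG
    have hrange : Set.range (c₀ ≫ β.left) ⊆ Set.range V.ι := by
      rw [Scheme.Opens.range_ι]
      rintro _ ⟨x, rfl⟩
      obtain ⟨y, hy, hyx⟩ := x.2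
      have : c₀ x = y := T₀.ι.isOpenEmbedding.injective ((congrArg (fun m => (m : _ ⟶ T) x) hc₀).trans hyx.symm)
      rw [Scheme.Hom.comp_apply, this]
      exact hy
    let τ : G.toScheme ⟶ V.toScheme := IsOpenImmersion.lift V.ι (c₀ ≫ β.left) hrange
    have hτ' : τ ≫ V.ι = c₀ ≫ β.left := IsOpenImmersion.lift_fac _ _ _
    have hτ : τ ≫ q = G.ι ≫ a := by
      rw [← Category.assoc, hτ', Category.assoc, Over.w β]
      show c₀ ≫ T₀.ι ≫ a = _
      rw [reassoc_of% hc₀]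
    refine ⟨G, τ, hτ, ?_, fun {T'} c b h e => ?_⟩
    · let c₀' : Over.mk (G.ι ≫ a) ⟶ Over.mk (T₀.ι ≫ a) := Over.homMk c₀ (by show c₀ ≫ T₀.ι ≫ a = _; rw [reassoc_of% hc₀]; rfl)
      have h1 := hβI.pull s Ω c₀'
      have h2 := hpull τ hτ
      have e' : (Over.homMk τ hτ : Over.mk (G.ι ≫ a) ⟶ Over.mk q) ≫ ιV = c₀' ≫ β := by ext1; exact hτ'
      simp only [HilbFun.pull_pull] at h1
      rw [e'] at h2
      refine (h2.eq s Ω h1).trans ?_
      show pre s _ (pre s a W' T₀.ι rfl) c₀ _ = _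
      rw [pre_comp]
      exact pre_congr s _ hc₀
    · have hcf := (hpull b h).isFam s Ω
      rw [e] at hcf
      have hcT : ∀ t' : T', c t' ∈ T₀ := fun t' => (hT₀ _).2 ⟨(finrank_pre s a c rfl hW' t').symm.trans (hcf.2.2 t'),
        fun z hz hzt => by
          obtain ⟨y, hy₁, hy₂⟩ := Scheme.Pullback.exists_preimage_pullback z t' hzt
          let P := isPullback_bmap s a c (rfl : c ≫ a = _)
          have hm : bmap s a c rfl (P.isoPullback.inv y) = z := by
            rw [← Scheme.Hom.comp_apply, IsPullback.isoPullback_inv_fst, hy₁]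
          have := hcf.2.1 (P.isoPullback.inv y) (by show bmap s a c rfl _ ∈ W'; rw [hm]; exact hz)
          rwa [← hm, ← Scheme.Hom.comp_apply, pullback.lift_fst]⟩
      let c₁ : T' ⟶ T₀.toScheme := IsOpenImmersion.lift T₀.ι c (by
        rw [Scheme.Opens.range_ι]; rintro _ ⟨t', rfl⟩; exact hcT t')
      have hc₁ : c₁ ≫ T₀.ι = c := IsOpenImmersion.lift_fac _ _ _
      let c₁' : Over.mk (c ≫ a) ⟶ Over.mk (T₀.ι ≫ a) := Over.homMk c₁ (by show c₁ ≫ T₀.ι ≫ a = _; rw [reassoc_of% hc₁]; rfl)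
      have h1 := hβI.pull s Ω c₁'
      simp only [HilbFun.pull_pull] at h1
      have h2 := hpull b h
      rw [e] at h2
      rw [show pre s (Over.mk (T₀.ι ≫ a)).hom (pre s a W' T₀.ι rfl) c₁'.left (Over.w c₁') = pre s a W' c rfl from
        (pre_comp s a W' c₁ _ T₀.ι rfl).trans (pre_congr s _ hc₁)] at h1
      have e' := congrArg CategoryTheory.Over.Hom.left (key _ _ _ h2 h1)
      rintro _ ⟨t', rfl⟩
      refine ⟨c₁ t', ?_, congrArg (fun m => (m : _ ⟶ T) t') hc₁⟩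
      show β.left (c₁ t') ∈ V
      exact (congrArg (fun m => (m : _ ⟶ Hs.left) t') e') ▸ (b t').2

end GrothLib.GrpdSplit13
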