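import Groth.Agent.Lib.Hilb26.Affine
import Groth.Agent.Lib.Hilb26.Closed
import Groth.Prelude.Def_HilbD

/-!
# Open finite parts of a base change as points of the Hilbert scheme of points
-/

set_option autoImplicit false
set_option linter.style.haveILetI false
set_option backward.isDefEq.respectTransparency false
universe u

open CategoryTheory CategoryTheory.Limits AlgebraicGeometry

namespace GrothLib.GrpdSplit13

variable {X B : Scheme.{u}} (s : X ⟶ B)

/-- The map of base changes of `s`. -/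
noncomputable abbrev bmap {T V : Scheme.{u}} {a : T ⟶ B} (q : V ⟶ B) (b : T ⟶ V) (h : b ≫ q = a) :
    pullback s a ⟶ pullback s q :=
  pullback.lift (pullback.fst s a) (pullback.snd s a ≫ b) (by rw [Category.assoc, h, pullback.condition])

theorem isPullback_bmap {T V : Scheme.{u}} {a : T ⟶ B} (q : V ⟶ B) (b : T ⟶ V) (h : b ≫ q = a) :
    IsPullback (bmap s q b h) (pullback.snd s a) (pullback.snd s q) b :=
  IsPullback.of_right (by rw [pullback.lift_fst, h]; exact IsPullback.of_hasPullback s a)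
    (pullback.lift_snd _ _ _) (IsPullback.of_hasPullback s q)

/-- The preimage of a part along a map of bases. -/
noncomputable def pre {T V : Scheme.{u}} {a : T ⟶ B} (q : V ⟶ B) (Z : (pullback s q).Opens) (b : T ⟶ V)
    (h : b ≫ q = a) : (pullback s a).Opens :=
  bmap s q b h ⁻¹ᵁ Z

theorem bmap_comp {T' T V : Scheme.{u}} {a' : T' ⟶ B} {a : T ⟶ B} (q : V ⟶ B) (c : T' ⟶ T)
    (hc : c ≫ a = a') (b : T ⟶ V) (h : b ≫ q = a) :
    bmap s a c hc ≫ bmap s q b h = bmap s q (c ≫ b) (by rw [Category.assoc, h, hc]) := by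
  apply pullback.hom_ext
  · rw [Category.assoc, pullback.lift_fst, pullback.lift_fst, pullback.lift_fst]
  · rw [Category.assoc, pullback.lift_snd, pullback.lift_snd_assoc, pullback.lift_snd, Category.assoc]

theorem pre_comp {T' T V : Scheme.{u}} {a' : T' ⟶ B} {a : T ⟶ B} (q : V ⟶ B) (Z : (pullback s q).Opens)
    (c : T' ⟶ T) (hc : c ≫ a = a') (b : T ⟶ V) (h : b ≫ q = a) :
    pre s a (pre s q Z b h) c hc = pre s q Z (c ≫ b) (by rw [Category.assoc, h, hc]) := by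
  rw [pre, pre, pre, ← Scheme.Hom.comp_preimage, bmap_comp]

theorem pre_congr {T V : Scheme.{u}} {a : T ⟶ B} {q : V ⟶ B} {Z : (pullback s q).Opens} {b b' : T ⟶ V}
    (h : b ≫ q = a) (e : b = b') : pre s q Z b h = pre s q Z b' (e ▸ h) := by subst e; rfl

theorem isPullback_pre {T V : Scheme.{u}} {a : T ⟶ B} (q : V ⟶ B) (Z : (pullback s q).Opens) (b : T ⟶ V)
    (h : b ≫ q = a) :
    IsPullback (bmap s q b h ∣_ Z) ((pre s q Z b h).ι ≫ pullback.snd s a) (Z.ι ≫ pullback.snd s q) b :=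
  (isPullback_morphismRestrict (bmap s q b h) Z).paste_vert (isPullback_bmap s q b h)

theorem isFinite_pre {T V : Scheme.{u}} {a : T ⟶ B} (q : V ⟶ B) {Z : (pullback s q).Opens} (b : T ⟶ V)
    (h : b ≫ q = a) (hZ : IsFinite (Z.ι ≫ pullback.snd s q)) :
    IsFinite ((pre s q Z b h).ι ≫ pullback.snd s a) :=
  MorphismProperty.of_isPullback (isPullback_pre s q Z b h) hZ

variable [Flat s] [LocallyOfFinitePresentation s]

theorem finrank_pre {T V : Scheme.{u}} {a : T ⟶ B} (q : V ⟶ B) {Z : (pullback s q).Opens} (b : T ⟶ V)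
    (h : b ≫ q = a) (hZ : IsFinite (Z.ι ≫ pullback.snd s q)) (t : T) :
    ((pre s q Z b h).ι ≫ pullback.snd s a).finrank t = (Z.ι ≫ pullback.snd s q).finrank (b t) := by
  haveI := hZ
  exact Scheme.Hom.finrank_of_isPullback _ _ _ _ (isPullback_pre s q Z b h) t

theorem isFinLocFree_part {T : Scheme.{u}} {a : T ⟶ B} {Z : (pullback s a).Opens}
    (hZ : IsFinite (Z.ι ≫ pullback.snd s a)) : Mor2.IsFinLocFree (Z.ι ≫ pullback.snd s a) :=
  ⟨hZ, inferInstance, inferInstance⟩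

/-- A closed immersion between finite locally free schemes of the same rank is an isomorphism. -/
theorem isIso_of_isClosedImmersion {A C Y : Scheme.{u}} (l : A ⟶ C) (π : C ⟶ Y) [IsClosedImmersion l]
    {d : ℕ} (hC : Mor2.IsFinLocFreeOfDeg d π) (hA : Mor2.IsFinLocFreeOfDeg d (l ≫ π)) : IsIso l := by
  wlog hY : ∃ R, Y = Spec R generalizing A C Y
  · let 𝒰 := Y.affineCover
    rw [← MorphismProperty.isomorphisms.iff,
      IsZariskiLocalAtTarget.iff_of_openCover (P := .isomorphisms Scheme) (𝒰.pullback₁ π)]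
    intro i
    dsimp [Scheme.Cover.pullbackHom]
    let π' := pullback.snd π (𝒰.f i)
    let l' := pullback.snd l (pullback.fst π (𝒰.f i))
    have H : IsPullback (pullback.fst l (pullback.fst π (𝒰.f i))) (l' ≫ π') (l ≫ π) (𝒰.f i) :=
      (IsPullback.of_hasPullback l (pullback.fst π (𝒰.f i))).paste_vert (IsPullback.of_hasPullback π (𝒰.f i))
    refine this l' π' ?_ ?_ ⟨_, rfl⟩
    · haveI := hC.1.1; haveI := hC.1.2.1; haveI := hC.1.2.2
      exact ⟨⟨inferInstance, inferInstance, inferInstance⟩, fun y =>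
        (Scheme.Hom.finrank_pullback_snd _ _ _).trans (hC.2 _)⟩
    · haveI := hA.1.1; haveI := hA.1.2.1; haveI := hA.1.2.2
      exact ⟨⟨MorphismProperty.of_isPullback H hA.1.1, MorphismProperty.of_isPullback H hA.1.2.1,
        MorphismProperty.of_isPullback H hA.1.2.2⟩, fun y =>
        (Scheme.Hom.finrank_of_isPullback _ _ _ _ H y).trans (hA.2 _)⟩
  obtain ⟨R, rfl⟩ := hY
  haveI := hC.1.1
  haveI : IsAffine C := isAffine_of_isAffineHom π
  haveI : IsAffine A := isAffine_of_isAffineHom l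
  wlog hX : (∃ T, C = Spec T) ∧ ∃ T', A = Spec T' generalizing A C with key
  · let l' := A.isoSpec.inv ≫ l ≫ C.isoSpec.hom
    let π' := C.isoSpec.inv ≫ π
    haveI : IsClosedImmersion l' :=
      (MorphismProperty.cancel_left_of_respectsIso @IsClosedImmersion _ _).2
        ((MorphismProperty.cancel_right_of_respectsIso @IsClosedImmersion _ _).2 inferInstance)
    have hC' : Mor2.IsFinLocFreeOfDeg d π' := (Hilb26.isFinLocFreeOfDeg_iso_comp C.isoSpec.symm π d).2 hC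
    have e : l' ≫ π' = A.isoSpec.inv ≫ l ≫ π := by simp [l', π']
    have hA' : Mor2.IsFinLocFreeOfDeg d (l' ≫ π') := by
      rw [e]; exact (Hilb26.isFinLocFreeOfDeg_iso_comp A.isoSpec.symm (l ≫ π) d).2 hA
    have h' := key l' π' hC' hA' hC'.1.1 inferInstance inferInstance ⟨⟨_, rfl⟩, ⟨_, rfl⟩⟩
    rwa [isIso_comp_left_iff, isIso_comp_right_iff] at h'
  obtain ⟨⟨Q, rfl⟩, ⟨Q', rfl⟩⟩ := hX
  obtain ⟨φ, rfl⟩ := Spec.map_surjective π
  obtain ⟨ψ, rfl⟩ := Spec.map_surjective l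
  rw [← Spec.map_comp] at hA
  have hψ : Function.Surjective ψ.hom := by
    have h := (IsClosedImmersion.isAffine_surjective_of_isAffine (Spec.map ψ)).2
    intro x
    obtain ⟨y, hy⟩ := h ((Scheme.ΓSpecIso Q').inv x)
    refine ⟨(Scheme.ΓSpecIso Q).hom y, ?_⟩
    have e := congrArg (fun k => k.hom y) (Scheme.ΓSpecIso_naturality ψ)
    refine e.symm.trans ?_
    show (Scheme.ΓSpecIso Q').hom ((Spec.map ψ).appTop y) = x
    rw [hy]
    exact congrArg (fun k => k.hom x) (Scheme.ΓSpecIso Q').inv_hom_id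
  algebraize [φ.hom, (φ ≫ ψ).hom]
  rw [show φ = CommRingCat.ofHom (algebraMap R Q) from rfl] at hC
  rw [show φ ≫ ψ = CommRingCat.ofHom (algebraMap R Q') from rfl] at hA
  obtain ⟨_, _, h1⟩ := (Hilb26.isFinLocFreeOfDeg_spec_iff R Q d).1 hC
  obtain ⟨_, _, h2⟩ := (Hilb26.isFinLocFreeOfDeg_spec_iff R Q' d).1 hA
  let L : Q →ₐ[R] Q' := { ψ.hom with commutes' := fun r => rfl }
  have hb : Function.Bijective L.toLinearMap :=
    Module.bijective_of_surjective_of_rankAtStalk_eq hψ fun m _ => (h1 _).trans (h2 _).symm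
  haveI : IsIso ψ := (ConcreteCategory.isIso_iff_bijective ψ).2 hb
  infer_instance

omit [Flat s] [LocallyOfFinitePresentation s] in
/-- A square above a pullback square with monomorphic lower left edge. -/
theorem isPullback_of_mono {P X' Y Z X₀ Y₀ : Scheme.{u}} {fst : P ⟶ X'} {snd : P ⟶ Y} {f : X' ⟶ Z}
    {g : Y ⟶ Z} {k : Z ⟶ X₀} {k' : X' ⟶ Y₀} {m : Y₀ ⟶ X₀} [Mono k'] (w : fst ≫ f = snd ≫ g)
    (hm : f ≫ k = k' ≫ m) (H : IsPullback (fst ≫ k') snd m (g ≫ k)) : IsPullback fst snd f g := by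
  refine IsPullback.mk' w (fun T φ φ' h₁ h₂ => H.hom_ext (by rw [reassoc_of% h₁]) h₂) fun T a b hab => ?_
  refine ⟨H.lift (a ≫ k') b (by rw [Category.assoc, ← hm, reassoc_of% hab]), ?_, H.lift_snd _ _ _⟩
  rw [← cancel_mono k', Category.assoc]
  exact H.lift_fst _ _ _

variable {d : ℕ} (Ω : X.Opens) [IsSeparated s]

/-- The base change of `Ω` inside the base change of `X`. -/
noncomputable abbrev kmap {T : Scheme.{u}} (a : T ⟶ B) : pullback (Ω.ι ≫ s) a ⟶ pullback s a :=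
  pullback.map (Ω.ι ≫ s) a s a Ω.ι (𝟙 T) (𝟙 B) (Category.comp_id _) (by simp)

omit [Flat s] [LocallyOfFinitePresentation s] [IsSeparated s] in
theorem bmap_kmap {T T' : Over B} (c : T' ⟶ T) :
    PicF.XTmap (Ω.ι ≫ s) c ≫ kmap s Ω T.hom = kmap s Ω T'.hom ≫ bmap s T.hom c.left (Over.w c) := by
  apply pullback.hom_ext
  · simp only [PicF.XTmap, Category.assoc, pullback.lift_fst, pullback.lift_fst_assoc, Category.id_comp]
  · simp only [PicF.XTmap, Category.assoc, pullback.lift_snd, pullback.lift_snd_assoc, Category.comp_id]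

/-- An open finite part lying over `Ω`, as a closed immersion. -/
theorem exists_closedImmersion {T : Scheme.{u}} {a : T ⟶ B} {Z : (pullback s a).Opens}
    (hZ : IsFinite (Z.ι ≫ pullback.snd s a)) (hin : ∀ z ∈ Z, pullback.fst s a z ∈ Ω) :
    ∃ j : Z.toScheme ⟶ pullback (Ω.ι ≫ s) a, IsClosedImmersion j ∧ j ≫ kmap s Ω a = Z.ι := by
  have hr : Set.range (Z.ι ≫ pullback.fst s a) ⊆ Set.range Ω.ι := by
    rw [Scheme.Opens.range_ι]
    rintro _ ⟨z, rfl⟩
    exact hin _ z.2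
  let j : Z.toScheme ⟶ pullback (Ω.ι ≫ s) a :=
    pullback.lift (IsOpenImmersion.lift Ω.ι _ hr) (Z.ι ≫ pullback.snd s a)
      (by rw [IsOpenImmersion.lift_fac_assoc, Category.assoc, pullback.condition, Category.assoc])
  have hj : j ≫ kmap s Ω a = Z.ι := by
    apply pullback.hom_ext
    · rw [Category.assoc, pullback.lift_fst, pullback.lift_fst_assoc, IsOpenImmersion.lift_fac]
    · rw [Category.assoc, pullback.lift_snd, Category.comp_id, pullback.lift_snd]
  haveI : IsFinite (j ≫ pullback.snd (Ω.ι ≫ s) a) := by rw [pullback.lift_snd]; exact hZ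
  haveI : IsFinite j := IsFinite.of_comp j (pullback.snd (Ω.ι ≫ s) a)
  haveI : Mono (j ≫ kmap s Ω a) := by rw [hj]; infer_instance
  haveI : Mono j := mono_of_mono j (kmap s Ω a)
  exact ⟨j, (IsClosedImmersion.iff_isFinite_and_mono j).2 ⟨inferInstance, inferInstance⟩, hj⟩

/-- A finite part of degree `d` lying over `Ω`, as a point of the Hilbert functor. -/
def IsFam (d : ℕ) {T : Scheme.{u}} (a : T ⟶ B) (Z : (pullback s a).Opens) : Prop :=
  IsFinite (Z.ι ≫ pullback.snd s a) ∧ (∀ z ∈ Z, pullback.fst s a z ∈ Ω) ∧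
    ∀ t, (Z.ι ≫ pullback.snd s a).finrank t = d

theorem IsFam.pre {T' T : Scheme.{u}} {a' : T' ⟶ B} {a : T ⟶ B} {Z : (pullback s a).Opens}
    (h : IsFam s Ω d a Z) (c : T' ⟶ T) (hc : c ≫ a = a') : IsFam s Ω d a' (pre s a Z c hc) := by
  refine ⟨isFinite_pre s a c hc h.1, fun z hz => ?_, fun t => (finrank_pre s a c hc h.1 t).trans (h.2.2 _)⟩
  have := h.2.1 _ hz
  rwa [← Scheme.Hom.comp_apply, pullback.lift_fst] at this

variable (d)

/-- The ideal of a finite part in the base change of `Ω`. -/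
def Cuts {T : Over B} (I : HilbD.Obj (Ω.ι ≫ s) d T) (Z : (pullback s T.hom).Opens) : Prop :=
  ∃ j : Z.toScheme ⟶ pullback (Ω.ι ≫ s) T.hom, IsClosedImmersion j ∧ j ≫ kmap s Ω T.hom = Z.ι ∧ j.ker = I.1

variable {d}

theorem exists_cuts {T : Over B} {Z : (pullback s T.hom).Opens} (h : IsFam s Ω d T.hom Z) :
    ∃ I, Cuts s d Ω (T := T) I Z := by
  obtain ⟨j, hj, hjk⟩ := exists_closedImmersion s Ω h.1 h.2.1
  refine ⟨⟨j.ker, ?_⟩, j, hj, hjk, rfl⟩
  obtain ⟨e, he⟩ := HilbFun.exists_iso_ker j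
  have : j.ker.subschemeι ≫ PicF.XTproj (Ω.ι ≫ s) T = e.inv ≫ Z.ι ≫ pullback.snd s T.hom := by
    rw [Iso.eq_inv_comp, reassoc_of% he, ← hjk, Category.assoc, pullback.lift_snd, Category.comp_id]
  rw [this]
  exact (Hilb26.isFinLocFreeOfDeg_iso_comp e.symm _ d).2 ⟨isFinLocFree_part s h.1, h.2.2⟩

omit [Flat s] [LocallyOfFinitePresentation s] in
/-- Base change of the ideal of a part. -/
theorem Cuts.pull {T T' : Over B} {I : HilbD.Obj (Ω.ι ≫ s) d T} {Z : (pullback s T.hom).Opens}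
    (h : Cuts s d Ω I Z) (c : T' ⟶ T) :
    Cuts s d Ω ⟨HilbD.pull _ c I.1, HilbFun.isFinLocFreeOfDeg_pull _ c I.2⟩
      (GrothLib.GrpdSplit13.pre s T.hom Z c.left (Over.w c)) := by
  obtain ⟨j, hj, hjk, hker⟩ := h
  let Z' := GrothLib.GrpdSplit13.pre s T.hom Z c.left (Over.w c)
  let m := bmap s T.hom c.left (Over.w c)
  have hr : Set.range Z'.ι ⊆ Set.range (kmap s Ω T'.hom) := by
    rintro _ ⟨z, rfl⟩
    have hz : m (Z'.ι z) ∈ Z := z.2
    obtain ⟨y, hy⟩ : m (Z'.ι z) ∈ Set.range Z.ι := by rw [Scheme.Opens.range_ι]; exact hz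
    have H : IsPullback (PicF.XTmap (Ω.ι ≫ s) c) (kmap s Ω T'.hom) (kmap s Ω T.hom) m := by
      refine (IsPullback.of_bot ?_ (bmap_kmap s Ω c) (isPullback_bmap s T.hom c.left (Over.w c)))
      simp only [pullback.lift_snd, Category.comp_id]
      exact HilbFun.isPullback_XTmap (Ω.ι ≫ s) c
    obtain ⟨w, -, hw⟩ := Scheme.Pullback.exists_preimage_pullback (f := kmap s Ω T.hom) (g := m) (j y) (Z'.ι z)
      (by rw [← Scheme.Hom.comp_apply, hjk, hy])
    exact ⟨H.isoPullback.inv w, by rw [← Scheme.Hom.comp_apply, IsPullback.isoPullback_inv_snd, hw]⟩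
  let j' : Z'.toScheme ⟶ pullback (Ω.ι ≫ s) T'.hom := IsOpenImmersion.lift (kmap s Ω T'.hom) Z'.ι hr
  have hj' : j' ≫ kmap s Ω T'.hom = Z'.ι := IsOpenImmersion.lift_fac _ _ _
  have sq : IsPullback j' (m ∣_ Z) (PicF.XTmap (Ω.ι ≫ s) c) j := by
    refine isPullback_of_mono ?_ (bmap_kmap s Ω c) ?_
    · rw [← cancel_mono (kmap s Ω T.hom), Category.assoc, Category.assoc, bmap_kmap, hjk, ← Category.assoc, hj']
      exact (morphismRestrict_ι m Z).symm
    · rw [hj', hjk]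
      exact (isPullback_morphismRestrict m Z).flip
  refine ⟨j', MorphismProperty.of_isPullback sq.flip hj, hj', ?_⟩
  show j'.ker = HilbD.pull _ c I.1
  rw [HilbFun.pull_eq_comap, ← hker, HilbFun.comap_ker j sq]

omit [Flat s] [LocallyOfFinitePresentation s] [IsSeparated s] in
theorem Cuts.mem_iff {T : Over B} {I : HilbD.Obj (Ω.ι ≫ s) d T} {Z : (pullback s T.hom).Opens}
    (h : Cuts s d Ω I Z) (z : ↥(pullback s T.hom)) :
    z ∈ Z ↔ z ∈ Set.range (I.1.subschemeι ≫ kmap s Ω T.hom) := by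
  obtain ⟨j, hj, hjk, hker⟩ := h
  obtain ⟨e, he⟩ := HilbFun.exists_iso_ker j
  rw [← hker, show z ∈ Z ↔ z ∈ Set.range Z.ι by rw [Scheme.Opens.range_ι]; rfl, ← hjk]
  constructor
  · rintro ⟨w, rfl⟩
    exact ⟨e.hom w, by rw [← Scheme.Hom.comp_apply, reassoc_of% he]⟩
  · rintro ⟨w, rfl⟩
    exact ⟨e.inv w, by rw [← Scheme.Hom.comp_apply, ← cancel_epi e.hom |>.mp
      (show e.hom ≫ e.inv ≫ j ≫ kmap s Ω T.hom = e.hom ≫ j.ker.subschemeι ≫ kmap s Ω T.hom by
        rw [Iso.hom_inv_id_assoc, reassoc_of% he])]⟩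

omit [Flat s] [LocallyOfFinitePresentation s] [IsSeparated s] in
theorem Cuts.unique {T : Over B} {I I' : HilbD.Obj (Ω.ι ≫ s) d T} {Z : (pullback s T.hom).Opens}
    (h : Cuts s d Ω I Z) (h' : Cuts s d Ω I' Z) : I = I' := by
  obtain ⟨j, hj, hjk, hker⟩ := h
  obtain ⟨j', hj', hjk', hker'⟩ := h'
  obtain rfl : j = j' := (cancel_mono (kmap s Ω T.hom)).1 (hjk.trans hjk'.symm)
  exact Subtype.ext (hker.symm.trans hker')

omit [Flat s] [LocallyOfFinitePresentation s] [IsSeparated s] in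
theorem Cuts.eq {T : Over B} {I : HilbD.Obj (Ω.ι ≫ s) d T} {Z Z' : (pullback s T.hom).Opens}
    (h : Cuts s d Ω I Z) (h' : Cuts s d Ω I Z') : Z = Z' :=
  TopologicalSpace.Opens.ext (Set.ext fun z => (h.mem_iff s Ω z).trans (h'.mem_iff s Ω z).symm)

omit [Flat s] [LocallyOfFinitePresentation s] [IsSeparated s] in
/-- An ideal whose subscheme is open in the base change cuts out that open. -/
theorem cuts_opensRange {T : Over B} (I : HilbD.Obj (Ω.ι ≫ s) d T)
    [IsOpenImmersion (I.1.subschemeι ≫ kmap s Ω T.hom)] :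
    Cuts s d Ω I (I.1.subschemeι ≫ kmap s Ω T.hom).opensRange := by
  let jv := I.1.subschemeι ≫ kmap s Ω T.hom
  let e := IsOpenImmersion.isoOfRangeEq jv.opensRange.ι jv (by rw [Scheme.Opens.range_ι]; rfl)
  refine ⟨e.hom ≫ I.1.subschemeι, inferInstance, ?_, ?_⟩
  · rw [Category.assoc]
    exact IsOpenImmersion.isoOfRangeEq_hom_fac _ _ _
  · rw [Scheme.Hom.ker_comp_of_isIso, Scheme.IdealSheafData.ker_subschemeι]

omit [Flat s] [LocallyOfFinitePresentation s] [IsSeparated s] in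
theorem isPullback_kmap {T T' : Over B} (c : T' ⟶ T) :
    IsPullback (PicF.XTmap (Ω.ι ≫ s) c) (kmap s Ω T'.hom) (kmap s Ω T.hom)
      (bmap s T.hom c.left (Over.w c)) := by
  refine IsPullback.of_bot ?_ (bmap_kmap s Ω c) (isPullback_bmap s T.hom c.left (Over.w c))
  simp only [pullback.lift_snd, Category.comp_id]
  exact HilbFun.isPullback_XTmap (Ω.ι ≫ s) c

omit [Flat s] [LocallyOfFinitePresentation s] [IsSeparated s] in
/-- The subscheme of a pulled back ideal maps to the subscheme. -/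
theorem subschemeι_pull {T T' : Over B} (c : T' ⟶ T) (J : (PicF.XT (Ω.ι ≫ s) T).IdealSheafData) :
    ∃ e : (HilbD.pull (Ω.ι ≫ s) c J).subscheme ⟶ J.subscheme,
      IsPullback e ((HilbD.pull (Ω.ι ≫ s) c J).subschemeι ≫ kmap s Ω T'.hom)
        (J.subschemeι ≫ kmap s Ω T.hom) (bmap s T.hom c.left (Over.w c)) := by
  rw [HilbFun.pull_eq_comap]
  refine ⟨(J.comapIso (PicF.XTmap (Ω.ι ≫ s) c)).hom ≫ pullback.snd _ _, ?_⟩
  refine IsPullback.paste_vert ?_ (isPullback_kmap s Ω c)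
  exact IsPullback.of_iso_pullback ⟨by rw [Category.assoc, ← pullback.condition,
      Scheme.IdealSheafData.comapIso_hom_fst_assoc]⟩
    (J.comapIso _ ≪≫ pullbackSymmetry _ _)
    (by rw [Iso.trans_hom, Category.assoc]; erw [pullbackSymmetry_hom_comp_fst])
    (by rw [Iso.trans_hom, Category.assoc]; erw [pullbackSymmetry_hom_comp_snd]; exact J.comapIso_hom_fst _)

omit [Flat s] [LocallyOfFinitePresentation s] [IsSeparated s] in
theorem Cuts.isOpenImmersion {T : Over B} {I : HilbD.Obj (Ω.ι ≫ s) d T} {Z : (pullback s T.hom).Opens}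
    (h : Cuts s d Ω I Z) : IsOpenImmersion (I.1.subschemeι ≫ kmap s Ω T.hom) := by
  obtain ⟨j, hj, hjk, hker⟩ := h
  obtain ⟨e, he⟩ := HilbFun.exists_iso_ker j
  have : I.1.subschemeι ≫ kmap s Ω T.hom ≫ 𝟙 _ = I.1.subschemeι ≫ kmap s Ω T.hom := by simp
  rw [← hker, show j.ker.subschemeι ≫ kmap s Ω T.hom = e.inv ≫ Z.ι by
    rw [Iso.eq_inv_comp, reassoc_of% he, hjk]]
  infer_instance

omit [Flat s] [LocallyOfFinitePresentation s] [IsSeparated s] in
theorem Cuts.isFam {T : Over B} {I : HilbD.Obj (Ω.ι ≫ s) d T} {Z : (pullback s T.hom).Opens}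
    (h : Cuts s d Ω I Z) : IsFam s Ω d T.hom Z := by
  obtain ⟨j, hj, hjk, hker⟩ := h
  obtain ⟨e, he⟩ := HilbFun.exists_iso_ker j
  have h1 : Mor2.IsFinLocFreeOfDeg d (Z.ι ≫ pullback.snd s T.hom) := by
    rw [show Z.ι ≫ pullback.snd s T.hom = e.hom ≫ j.ker.subschemeι ≫ PicF.XTproj (Ω.ι ≫ s) T by
      rw [reassoc_of% he, ← hjk, Category.assoc, pullback.lift_snd, Category.comp_id]]
    refine (Hilb26.isFinLocFreeOfDeg_iso_comp e _ d).2 ?_
    rw [hker]
    exact I.2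
  refine ⟨h1.1.1, fun z hz => ?_, h1.2⟩
  obtain ⟨w, rfl⟩ : z ∈ Set.range (j ≫ kmap s Ω T.hom) := by rw [hjk, Scheme.Opens.range_ι]; exact hz
  rw [← Scheme.Hom.comp_apply, Category.assoc, pullback.lift_fst]
  exact (pullback.fst (Ω.ι ≫ s) T.hom (j w)).2

omit [Flat s] [LocallyOfFinitePresentation s] in
/-- An ideal of degree `d` inside a part of degree `d` cuts it out. -/
theorem Cuts.of_range_subset {T : Over B} (I I' : HilbD.Obj (Ω.ι ≫ s) d T) {Z : (pullback s T.hom).Opens}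
    (h : Cuts s d Ω I' Z) (hle : Set.range (I.1.subschemeι ≫ kmap s Ω T.hom) ⊆ Z) : Cuts s d Ω I Z := by
  have hfam := h.isFam s Ω
  obtain ⟨j, hj, hjk, hker⟩ := h
  obtain ⟨e, he⟩ := HilbFun.exists_iso_ker j
  let l : I.1.subscheme ⟶ Z.toScheme := IsOpenImmersion.lift Z.ι (I.1.subschemeι ≫ kmap s Ω T.hom)
    (by rwa [Scheme.Opens.range_ι])
  have hl : l ≫ j = I.1.subschemeι := by
    rw [← cancel_mono (kmap s Ω T.hom), Category.assoc, hjk, IsOpenImmersion.lift_fac]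
  haveI : IsClosedImmersion (l ≫ j) := by rw [hl]; infer_instance
  haveI : IsClosedImmersion l := IsClosedImmersion.of_comp l j
  have hπ : Z.ι ≫ pullback.snd s T.hom = j ≫ PicF.XTproj (Ω.ι ≫ s) T := by
    rw [← hjk, Category.assoc, pullback.lift_snd, Category.comp_id]
  have hC : Mor2.IsFinLocFreeOfDeg d (j ≫ PicF.XTproj (Ω.ι ≫ s) T) := by
    rw [← he, Category.assoc]
    refine (Hilb26.isFinLocFreeOfDeg_iso_comp e _ d).2 ?_
    rw [hker]
    exact I'.2
  haveI : IsIso l := isIso_of_isClosedImmersion l (j ≫ PicF.XTproj (Ω.ι ≫ s) T) hC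
    (by rw [reassoc_of% hl]; exact I.2)
  refine ⟨j, hj, hjk, ?_⟩
  rw [← Scheme.Hom.ker_comp_of_isIso l j, hl, Scheme.IdealSheafData.ker_subschemeι]

variable (d)

/-- The points of the base over which a part has degree `d` and lies over `Ω`. -/
theorem exists_locus {T : Scheme.{u}} {a : T ⟶ B} {Z : (pullback s a).Opens}
    (hZ : IsFinite (Z.ι ≫ pullback.snd s a)) :
    ∃ T₀ : T.Opens, ∀ t, t ∈ T₀ ↔ (Z.ι ≫ pullback.snd s a).finrank t = d ∧
      ∀ z ∈ Z, pullback.snd s a z = t → pullback.fst s a z ∈ Ω := by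
  haveI := hZ
  let φ := Z.ι ≫ pullback.snd s a
  have hc : IsClosed (φ '' {z | pullback.fst s a (Z.ι z) ∉ Ω}) :=
    φ.isClosedMap _ (Ω.isOpen.isClosed_compl.preimage ((pullback.fst s a).continuous.comp Z.ι.continuous))
  refine ⟨⟨(φ.finrank ⁻¹' {d}) ∩ (φ '' {z | pullback.fst s a (Z.ι z) ∉ Ω})ᶜ,
    ((Scheme.Hom.isLocallyConstant_finrank φ) {d}).inter hc.isOpen_compl⟩, fun t => ?_⟩
  refine and_congr Iff.rfl ⟨fun h z hz hzt => ?_, ?_⟩
  · by_contra hn
    exact h ⟨⟨z, hz⟩, hn, hzt⟩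
  · rintro h ⟨z, hn, hzt⟩
    exact hn (h _ z.2 hzt)

theorem isFam_pre_of_range {T' T : Scheme.{u}} {a' : T' ⟶ B} {a : T ⟶ B} {Z : (pullback s a).Opens}
    (hZ : IsFinite (Z.ι ≫ pullback.snd s a)) (c : T' ⟶ T) (hc : c ≫ a = a')
    (h : ∀ t', (Z.ι ≫ pullback.snd s a).finrank (c t') = d ∧
      ∀ z ∈ Z, pullback.snd s a z = c t' → pullback.fst s a z ∈ Ω) :
    IsFam s Ω d a' (GrothLib.GrpdSplit13.pre s a Z c hc) := by
  refine ⟨isFinite_pre s a c hc hZ, fun z hz => ?_, fun t => (finrank_pre s a c hc hZ t).trans (h t).1⟩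
  have := (h (pullback.snd s a' z)).2 _ hz (by
    rw [← Scheme.Hom.comp_apply, pullback.lift_snd, Scheme.Hom.comp_apply])
  rwa [← Scheme.Hom.comp_apply, pullback.lift_fst] at this

end GrothLib.GrpdSplit13
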