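import Groth.Agent.Lib.GrpdSplit13.Trans
import Groth.Agent.S1881

/-!
# Splitting a groupoid after an étale localisation
-/

set_option autoImplicit false
set_option linter.style.haveILetI false
set_option backward.isDefEq.respectTransparency false
universe u

open CategoryTheory CategoryTheory.Limits AlgebraicGeometry

namespace GrothLib.GrpdSplit13

open GrothLib.GrpSchField (cmp cmp_congr comp_cmp cmp_inv_right')
open GrothLib.GrpdQuot (arrIn arrInι arrInS arrInT arrInMk arrInMk_ι arrInMk_s arrInMk_t arrInι_s arrInι_t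
  arrToS cmp_s cmp_t)

noncomputable section

variable {S : Scheme.{u}} {G : Grpd.GroupoidScheme S} {H : Set G.R} {u : G.U} (C : Chart G.s H u)
  [IsSeparated G.s] [Flat G.s] [LocallyOfFinitePresentation G.s]
  (U₂ : C.V.Opens) (hle : U₂ ≤ U₁ C) (hτ : Set.range (τP C U₂ hle) ⊆ U₂)

theorem range_πP : Set.range (πP C U₂) ⊆ U₂ := by
  rintro _ ⟨p, rfl⟩
  exact p.2

/-- The new objects. -/
abbrev gU : U₂.toScheme ⟶ G.U := U₂.ι ≫ C.q

/-- The source. -/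
def π2 : PP C U₂ ⟶ U₂.toScheme :=
  IsOpenImmersion.lift U₂.ι (πP C U₂) (by rw [Scheme.Opens.range_ι]; exact range_πP C U₂)

/-- The target. -/
def τ2 : PP C U₂ ⟶ U₂.toScheme :=
  IsOpenImmersion.lift U₂.ι (τP C U₂ hle) (by rw [Scheme.Opens.range_ι]; exact hτ)

@[reassoc (attr := simp)]
theorem π2_ι : π2 C U₂ ≫ U₂.ι = πP C U₂ := IsOpenImmersion.lift_fac _ _ _

@[reassoc (attr := simp)]
theorem τ2_ι : τ2 C U₂ hle hτ ≫ U₂.ι = τP C U₂ hle := IsOpenImmersion.lift_fac _ _ _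

/-- The split part inside the restricted groupoid. -/
def ιP : PP C U₂ ⟶ arrIn G (gU C U₂) :=
  arrInMk G (gU C U₂) (ρP C U₂) (τ2 C U₂ hle hτ) (π2 C U₂)
    (by rw [τ2_ι_assoc, τP_q]) (by rw [π2_ι_assoc, ρP_s])

@[reassoc]
theorem ιP_s : ιP C U₂ hle hτ ≫ arrInS G (gU C U₂) = π2 C U₂ := arrInMk_s _ _ _ _ _ _ _

@[reassoc]
theorem ιP_t : ιP C U₂ hle hτ ≫ arrInT G (gU C U₂) = τ2 C U₂ hle hτ := arrInMk_t _ _ _ _ _ _ _

@[reassoc]
theorem ιP_ι : ιP C U₂ hle hτ ≫ arrInι G (gU C U₂) = ρP C U₂ := arrInMk_ι _ _ _ _ _ _ _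

theorem isFinite_π2 : IsFinite (π2 C U₂) := by
  haveI : IsFinite (π₀ C) := C.finite
  have : π2 C U₂ = π₀ C ∣_ U₂ := by
    rw [← cancel_mono U₂.ι, π2_ι, morphismRestrict_ι]; rfl
  rw [this]
  infer_instance

instance isOpenImmersion_ιP : IsOpenImmersion (ιP C U₂ hle hτ) := by
  haveI := C.etale
  let g := gU C U₂
  let k₀ : arrIn G g ⟶ pullback G.s g := pullback.lift (arrInι G g) (arrInS G g) (arrInι_s G g)
  haveI : Etale (pullback.fst G.s g) := inferInstance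
  haveI : Etale (arrInι G g) := by
    show Etale (pullback.fst (arrToS G g) g ≫ pullback.fst G.t g)
    infer_instance
  haveI : Etale (k₀ ≫ pullback.fst G.s g) := by rw [pullback.lift_fst]; infer_instance
  haveI : Etale k₀ := Etale.of_comp k₀ (pullback.fst G.s g)
  let m : pullback G.s g ⟶ pullback G.s C.q :=
    pullback.map G.s g G.s C.q (𝟙 _) U₂.ι (𝟙 _) (by simp) (by simp [g])
  have hk : (ιP C U₂ hle hτ ≫ k₀) ≫ m = (π₀ C ⁻¹ᵁ U₂).ι ≫ C.Z.ι := by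
    apply pullback.hom_ext
    · simp only [m, k₀, Category.assoc, pullback.lift_fst, pullback.lift_fst_assoc, Category.comp_id]
      exact ιP_ι C U₂ hle hτ
    · simp only [m, k₀, Category.assoc, pullback.lift_snd, pullback.lift_snd_assoc]
      exact (ιP_s_assoc C U₂ hle hτ U₂.ι).trans (π2_ι C U₂)
  haveI : IsOpenImmersion ((ιP C U₂ hle hτ ≫ k₀) ≫ m) := by rw [hk]; infer_instance
  haveI : IsOpenImmersion (ιP C U₂ hle hτ ≫ k₀) := IsOpenImmersion.of_comp _ m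
  haveI : Etale (ιP C U₂ hle hτ) :=
    haveI : Etale (ιP C U₂ hle hτ ≫ k₀) := inferInstance
    Etale.of_comp _ k₀
  haveI : Mono (ιP C U₂ hle hτ) := mono_of_mono _ k₀
  exact IsOpenImmersion.of_flat_of_mono _

theorem exists_eP : ∃ eP, eP ≫ ιP C U₂ hle hτ = restrE G (gU C U₂) := by
  have h : (U₂.ι ≫ C.q ≫ G.e) ≫ G.s = U₂.ι ≫ C.q := by simp only [Category.assoc, G.e_s, Category.comp_id]
  obtain ⟨c, hcπ, hcρ⟩ := exists_lift_P₀ C U₂.ι _ h ((loc_e C _ h).trans (top_le_iff.1 fun x _ => (hle x.2).1))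
  have hr : Set.range c ⊆ Set.range (π₀ C ⁻¹ᵁ U₂).ι := by
    rw [Scheme.Opens.range_ι]
    rintro _ ⟨x, rfl⟩
    show π₀ C (c x) ∈ U₂
    rw [← Scheme.Hom.comp_apply, hcπ]
    exact x.2
  let eP : U₂.toScheme ⟶ PP C U₂ := IsOpenImmersion.lift _ c hr
  have heπ : eP ≫ πP C U₂ = U₂.ι := (IsOpenImmersion.lift_fac_assoc _ _ _ (π₀ C)).trans hcπ
  have heρ : eP ≫ ρP C U₂ = U₂.ι ≫ C.q ≫ G.e := (IsOpenImmersion.lift_fac_assoc _ _ _ (ρ₀ C)).trans hcρ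
  have heτ : eP ≫ τP C U₂ hle = U₂.ι := by
    refine uniq_loc C _ _ ?_ fun {T'} d r hr => ?_
    · rw [Category.assoc, τP_q, ← Category.assoc, heρ]; simp only [Category.assoc, G.e_t, Category.comp_id]
    · refine (loc_congr C _ (Category.assoc _ _ _).symm rfl).trans
        ((keyP C U₂ hle (d ≫ eP) r (by rw [hr]; simp only [Category.assoc])).trans ?_)
      refine loc_congr C _ (by rw [Category.assoc, heπ]) ?_
      refine (cmp_congr G _ rfl ?_).trans (G.comp_e r)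
      rw [Category.assoc, heρ, reassoc_of% hr]
      rw [τP_q_assoc, reassoc_of% heρ]
      simp only [Category.assoc, reassoc_of% G.e_t]
  refine ⟨eP, arrIn_ext G _ ?_ ?_ ?_⟩
  · rw [Category.assoc, ιP_ι, heρ, restrE_ι, Category.assoc]
  · rw [Category.assoc, ιP_t, restrE_t, ← cancel_mono U₂.ι, Category.assoc, τ2_ι, heτ, Category.id_comp]
  · rw [Category.assoc, ιP_s, restrE_s, ← cancel_mono U₂.ι, Category.assoc, π2_ι, heπ, Category.id_comp]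

theorem exists_iP : ∃ iP : PP C U₂ ⟶ PP C U₂, iP ≫ ιP C U₂ hle hτ = ιP C U₂ hle hτ ≫ restrI G (gU C U₂) ∧
    iP ≫ π2 C U₂ = τ2 C U₂ hle hτ ∧ IsIso iP := by
  obtain ⟨c, hcπ, hcρ⟩ := exists_inv C U₂ hle (𝟙 (PP C U₂))
  rw [Category.id_comp] at hcπ hcρ
  have hr : Set.range c ⊆ Set.range (π₀ C ⁻¹ᵁ U₂).ι := by
    rw [Scheme.Opens.range_ι]
    rintro _ ⟨x, rfl⟩
    show π₀ C (c x) ∈ U₂
    rw [← Scheme.Hom.comp_apply, hcπ]
    exact hτ ⟨x, rfl⟩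
  let iP : PP C U₂ ⟶ PP C U₂ := IsOpenImmersion.lift _ c hr
  have hiπ : iP ≫ πP C U₂ = τP C U₂ hle := (IsOpenImmersion.lift_fac_assoc _ _ _ (π₀ C)).trans hcπ
  have hiρ : iP ≫ ρP C U₂ = ρP C U₂ ≫ G.i := (IsOpenImmersion.lift_fac_assoc _ _ _ (ρ₀ C)).trans hcρ
  have hiτ : iP ≫ τP C U₂ hle = πP C U₂ := by
    refine uniq_loc C _ _ ?_ fun {T'} d r hr => ?_
    · rw [Category.assoc, τP_q, ← Category.assoc, hiρ, Category.assoc, G.i_t, ρP_s]
    · have hr1 : r ≫ G.s = ((d ≫ ρP C U₂) ≫ G.i) ≫ G.t := by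
        rw [hr, Category.assoc, Category.assoc, τP_q, ← Category.assoc iP, hiρ]; simp only [Category.assoc]
      have h3 : cmp G r ((d ≫ ρP C U₂) ≫ G.i) hr1 ≫ G.s = (d ≫ τP C U₂ hle) ≫ C.q := by
        rw [cmp_s]; simp only [Category.assoc, G.i_s, τP_q]
      have e3 := keyP C U₂ hle d _ h3
      refine (loc_congr C _ (Category.assoc _ _ _).symm rfl).trans
        ((keyP C U₂ hle (d ≫ iP) r (by rw [hr]; simp only [Category.assoc])).trans ?_)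
      refine (loc_congr C _ (by rw [Category.assoc, hiπ])
        (cmp_congr G _ rfl (by rw [Category.assoc, hiρ, Category.assoc]))).trans (e3.trans ?_)
      refine loc_congr C _ rfl (GrpSchField.cmp_inv_right G _ _ ?_ hr1)
      rw [hr1]; simp only [Category.assoc, G.i_t]
  have hiπ2 : iP ≫ π2 C U₂ = τ2 C U₂ hle hτ := by rw [← cancel_mono U₂.ι, Category.assoc, π2_ι, hiπ, τ2_ι]
  have hiτ2 : iP ≫ τ2 C U₂ hle hτ = π2 C U₂ := by rw [← cancel_mono U₂.ι, Category.assoc, τ2_ι, hiτ, π2_ι]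
  have hii : iP ≫ iP = 𝟙 _ := by
    rw [← cancel_mono (ιP C U₂ hle hτ)]
    refine arrIn_ext G _ ?_ ?_ ?_
    · simp only [Category.assoc, ιP_ι, hiρ, reassoc_of% hiρ, GrpdQuot.i_i, Category.comp_id, Category.id_comp]
    · simp only [Category.assoc, ιP_t, hiτ2, hiπ2, Category.id_comp]
    · simp only [Category.assoc, ιP_s, hiτ2, hiπ2, Category.id_comp]
  refine ⟨iP, arrIn_ext G _ ?_ ?_ ?_, hiπ2, ⟨iP, hii, hii⟩⟩
  · simp only [Category.assoc, restrI_ι, ιP_ι, hiρ, ιP_ι_assoc]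
  · simp only [Category.assoc, restrI_t, ιP_t, ιP_s, hiτ2]
  · simp only [Category.assoc, restrI_s, ιP_t, ιP_s, hiπ2]

theorem exists_cP : ∃ cP : pullback (ιP C U₂ hle hτ ≫ arrInS G (gU C U₂)) (ιP C U₂ hle hτ ≫ arrInT G (gU C U₂)) ⟶ PP C U₂,
    cP ≫ ιP C U₂ hle hτ = pullback.map _ _ (arrInS G (gU C U₂)) (arrInT G (gU C U₂)) (ιP C U₂ hle hτ)
      (ιP C U₂ hle hτ) (𝟙 _) (Category.comp_id _) (Category.comp_id _) ≫ restrC G (gU C U₂) := by
  let T := pullback (ιP C U₂ hle hτ ≫ arrInS G (gU C U₂)) (ιP C U₂ hle hτ ≫ arrInT G (gU C U₂))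
  let α : T ⟶ PP C U₂ := pullback.fst _ _
  let β : T ⟶ PP C U₂ := pullback.snd _ _
  have hab : α ≫ π2 C U₂ = β ≫ τ2 C U₂ hle hτ := by
    simpa only [α, β, ιP_s, ιP_t] using (pullback.condition (f := ιP C U₂ hle hτ ≫ arrInS G (gU C U₂))
      (g := ιP C U₂ hle hτ ≫ arrInT G (gU C U₂)))
  have hab' : α ≫ πP C U₂ = β ≫ τP C U₂ hle := by rw [← π2_ι, reassoc_of% hab, τ2_ι]
  obtain ⟨γ, hγπ, hγρ⟩ := exists_comp C U₂ hle (α ≫ (π₀ C ⁻¹ᵁ U₂).ι) β (by rw [Category.assoc]; exact hab')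
  have hγρ' : γ ≫ ρP C U₂ = cmp G (α ≫ ρP C U₂) (β ≫ ρP C U₂)
      (by rw [Category.assoc, ρP_s, reassoc_of% hab', τP_q, Category.assoc]) :=
    hγρ.trans (cmp_congr G _ (Category.assoc _ _ _) rfl)
  have hγτ := τP_comp C U₂ hle α β γ hab' hγπ hγρ'
  have hmap : pullback.map (ιP C U₂ hle hτ ≫ arrInS G (gU C U₂)) (ιP C U₂ hle hτ ≫ arrInT G (gU C U₂))
      (arrInS G (gU C U₂)) (arrInT G (gU C U₂)) (ιP C U₂ hle hτ) (ιP C U₂ hle hτ) (𝟙 _) (Category.comp_id _)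
      (Category.comp_id _) = pullback.lift (α ≫ ιP C U₂ hle hτ) (β ≫ ιP C U₂ hle hτ)
      (by rw [Category.assoc, Category.assoc, ιP_s, ιP_t, hab]) := by
    apply pullback.hom_ext <;> simp [α, β]
  refine ⟨γ, ?_⟩
  rw [hmap]
  refine arrIn_ext G _ ?_ ?_ ?_
  · refine Eq.trans ?_ (restrC_ι G _ _ _ _).symm
    rw [Category.assoc, ιP_ι, hγρ']
    exact cmp_congr G _ (by rw [Category.assoc, ιP_ι]) (by rw [Category.assoc, ιP_ι])
  · have e : γ ≫ τ2 C U₂ hle hτ = α ≫ τ2 C U₂ hle hτ := by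
      rw [← cancel_mono U₂.ι, Category.assoc, Category.assoc, τ2_ι, hγτ]
    refine Eq.trans ?_ (restrC_t G _ _ _ _).symm
    exact ((Category.assoc _ _ _).trans (congrArg (γ ≫ ·) (ιP_t C U₂ hle hτ))).trans
      (e.trans ((Category.assoc _ _ _).trans (congrArg (α ≫ ·) (ιP_t C U₂ hle hτ))).symm)
  · have e : γ ≫ π2 C U₂ = β ≫ π2 C U₂ := by
      rw [← cancel_mono U₂.ι, Category.assoc, Category.assoc, π2_ι, hγπ]
    refine Eq.trans ?_ (restrC_s G _ _ _ _).symm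
    exact ((Category.assoc _ _ _).trans (congrArg (γ ≫ ·) (ιP_s C U₂ hle hτ))).trans
      (e.trans ((Category.assoc _ _ _).trans (congrArg (β ≫ ·) (ιP_s C U₂ hle hτ))).symm)

theorem isFinite_ιP : IsFinite (ιP C U₂ hle hτ ≫ arrInS G (gU C U₂)) ∧
    IsFinite (ιP C U₂ hle hτ ≫ arrInT G (gU C U₂)) := by
  haveI := isFinite_π2 C U₂
  rw [ιP_s, ιP_t]
  obtain ⟨iP, -, hiπ, _⟩ := exists_iP C U₂ hle hτ
  refine ⟨inferInstance, ?_⟩
  rw [← hiπ]
  infer_instance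

section Point

variable (hst : ∀ r ∈ H, G.s r = u ∧ G.t r = u) (heu : G.e u ∈ H)
  (hc : ∀ z, pullback.fst G.s G.t z ∈ H → pullback.snd G.s G.t z ∈ H → G.c z ∈ H)
  (hi : ∀ r ∈ H, G.i r ∈ H)

theorem mem_loc_iff {T : Scheme.{u}} (b : T ⟶ C.V) (r : T ⟶ G.R) (h : r ≫ G.s = b ≫ C.q) (t : T)
    (hb : b t = C.v) : t ∈ loc C b r h ↔ r t ∈ H := by
  show pullback.lift r b h t ∈ C.Z ↔ _
  rw [C.fibre _ (by rw [← Scheme.Hom.comp_apply, pullback.lift_snd, hb]), ← Scheme.Hom.comp_apply,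
    pullback.lift_fst]

include hc hi in
theorem cmp_mem_iff {T : Scheme.{u}} (α β : T ⟶ G.R) (h : α ≫ G.s = β ≫ G.t) (t : T) (hβ : β t ∈ H) :
    cmp G α β h t ∈ H ↔ α t ∈ H := by
  constructor
  · intro hm
    have h' : cmp G α β h ≫ G.s = (β ≫ G.i) ≫ G.t := by rw [cmp_s, Category.assoc, G.i_t]
    have e := cmp_inv_right' G β α h h'
    rw [← e, Scheme.Hom.comp_apply]
    refine hc _ ?_ ?_
    · rw [← Scheme.Hom.comp_apply, pullback.lift_fst]; exact hm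
    · rw [← Scheme.Hom.comp_apply, pullback.lift_snd, Scheme.Hom.comp_apply]; exact hi _ hβ
  · intro hm
    rw [Scheme.Hom.comp_apply]
    refine hc _ ?_ ?_
    · rw [← Scheme.Hom.comp_apply, pullback.lift_fst]; exact hm
    · rw [← Scheme.Hom.comp_apply, pullback.lift_snd]; exact hβ

theorem π₀_ρ₀_mem (p : P₀ C) (hp : π₀ C p = C.v) : ρ₀ C p ∈ H := by
  rw [ρ₀, Scheme.Hom.comp_apply, ← C.fibre _ (by rw [← Scheme.Hom.comp_apply]; exact hp)]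
  exact p.2

include heu in
theorem v_mem_V₀ : C.v ∈ V₀ C := by
  show pullback.lift (C.q ≫ G.e) (𝟙 C.V) _ C.v ∈ C.Z
  rw [C.fibre _ (by rw [← Scheme.Hom.comp_apply, pullback.lift_snd]; rfl), ← Scheme.Hom.comp_apply,
    pullback.lift_fst, Scheme.Hom.comp_apply, C.base_eq]
  exact heu

include hst hc hi in
theorem translate_over_v (p : P₀ C) (hp : π₀ C p = C.v) :
    ∃ h : p ∈ G₀ C, τ₀ C ⟨p, h⟩ = C.v := by
  let Ω := (P₀ C).residueField p
  let c : Spec (CommRingCat.of Ω) ⟶ P₀ C := (P₀ C).fromSpecResidueField p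
  have hcp : ∀ x, c x = p := fun x => (P₀ C).fromSpecResidueField_apply p x
  obtain ⟨b, hb, hbv⟩ := Weight.exists_lift_of_bijective C.q C.v C.residue_bijective (c ≫ aT C) (by
    show (c ≫ aT C) _ = _
    rw [Scheme.Hom.comp_apply, hcp, C.base_eq, Scheme.Hom.comp_apply]
    exact (hst _ (π₀_ρ₀_mem C p hp)).2)
  have hbv' : ∀ x, b x = C.v := fun x => by
    rw [Subsingleton.elim x (IsLocalRing.closedPoint Ω)]; exact hbv
  have hG := range_subset_G₀ C c b hb (fun {T'} d r hr => by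
    ext t
    rw [SetLike.mem_coe, SetLike.mem_coe, mem_loc_iff C _ _ _ t (by rw [Scheme.Hom.comp_apply, hbv']),
      mem_loc_iff C _ _ _ t (by rw [Scheme.Hom.comp_apply, Scheme.Hom.comp_apply, hcp, hp]),
      cmp_mem_iff hc hi _ _ _ t (by rw [Scheme.Hom.comp_apply, Scheme.Hom.comp_apply, hcp]; exact π₀_ρ₀_mem C p hp)])
  have hpG : p ∈ G₀ C := hG ⟨IsLocalRing.closedPoint Ω, hcp _⟩
  refine ⟨hpG, ?_⟩
  let c₀ : Spec (CommRingCat.of Ω) ⟶ (G₀ C).toScheme := IsOpenImmersion.lift (G₀ C).ι c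
    (by rw [Scheme.Opens.range_ι]; exact hG)
  have hc₀ : c₀ ≫ (G₀ C).ι = c := IsOpenImmersion.lift_fac _ _ _
  have heq : c₀ ≫ τ₀ C = b := by
    refine uniq_loc C _ _ ?_ fun {T'} d r hr => ?_
    · rw [Category.assoc, τ₀_q, reassoc_of% hc₀, hb]
    · refine (loc_congr C _ (Category.assoc _ _ _).symm rfl).trans
        ((key C (d ≫ c₀) r (by rw [hr]; simp only [Category.assoc])).trans ?_)
      ext t
      have hdc : ((d ≫ c₀) ≫ (G₀ C).ι) t = p := by rw [Category.assoc, hc₀, Scheme.Hom.comp_apply, hcp]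
      rw [SetLike.mem_coe, SetLike.mem_coe, mem_loc_iff C _ _ _ t (by rw [Scheme.Hom.comp_apply, hdc, hp]),
        cmp_mem_iff hc hi _ _ _ t (by rw [Scheme.Hom.comp_apply, hdc]; exact π₀_ρ₀_mem C p hp),
        mem_loc_iff C _ _ _ t (by rw [Scheme.Hom.comp_apply, hbv'])]
  have : (⟨p, hpG⟩ : (G₀ C).toScheme) = c₀ (IsLocalRing.closedPoint Ω) :=
    (G₀ C).ι.isOpenEmbedding.injective (by rw [← Scheme.Hom.comp_apply, hc₀, hcp]; rfl)
  rw [this, ← Scheme.Hom.comp_apply, heq, hbv']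

include hst heu hc hi in
theorem v_mem_U₁ : C.v ∈ U₁ C :=
  (mem_U₁ C _).2 ⟨v_mem_V₀ C heu, fun p hp => (translate_over_v C hst hc hi p hp).1⟩

include hst hc hi in
theorem τ2_v (p : PP C U₂) (hp : πP C U₂ p = C.v) : τP C U₂ hle p = C.v := by
  obtain ⟨h, h'⟩ := translate_over_v C hst hc hi ((π₀ C ⁻¹ᵁ U₂).ι p) hp
  rw [τP, Scheme.Hom.comp_apply]
  refine Eq.trans (congrArg (τ₀ C) ?_) h'
  exact (G₀ C).ι.isOpenEmbedding.injective (by rw [← Scheme.Hom.comp_apply, cG_ι]; rfl)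

include hst in
theorem mem_range_ιP (hv : C.v ∈ U₂) (hτv : ∀ p, πP C U₂ p = C.v → τP C U₂ hle p = C.v)
    (r' : (restr G (gU C U₂)).R) (hs : (restr G (gU C U₂)).s r' = ⟨C.v, hv⟩)
    (ht : (restr G (gU C U₂)).t r' = ⟨C.v, hv⟩) (hr : arrInι G (gU C U₂) r' ∈ H) :
    ∃ p, ιP C U₂ hle hτ p = r' := by
  let g := gU C U₂
  let x := arrInι G g r'
  obtain ⟨z, ⟨hz₁, hz₂⟩, -, -⟩ := Weight.existsUnique_point_over G.s C.q C.v C.residue_bijective x
    ((hst x hr).1.trans C.base_eq.symm)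
  have hzZ : z ∈ C.Z := (C.fibre z hz₂).2 (by rw [hz₁]; exact hr)
  let p : PP C U₂ := ⟨⟨z, hzZ⟩, by show π₀ C _ ∈ U₂; rw [π₀, Scheme.Hom.comp_apply]; exact hz₂ ▸ hv⟩
  have hpπ : πP C U₂ p = C.v := hz₂
  have hpρ : ρP C U₂ p = x := hz₁
  refine ⟨p, ?_⟩
  have hgb : Function.Bijective (g.residueFieldMap ⟨C.v, hv⟩) := by
    have hiso : ∀ x : ↥(U₂ : Scheme.{u}), IsIso (U₂.ι.residueFieldMap x) := fun x => inferInstance
    exact Weight.residueFieldMap_bijective_of_comp _ _ _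
      ((ConcreteCategory.isIso_iff_bijective _).mp (hiso ⟨C.v, hv⟩)) C.residue_bijective
  have hgv : g ⟨C.v, hv⟩ = u := C.base_eq
  obtain ⟨w₁, -, -, huniq₁⟩ := Weight.existsUnique_point_over G.t g _ hgb x ((hst x hr).2.trans hgv.symm)
  obtain ⟨w₂, -, -, huniq₂⟩ := Weight.existsUnique_point_over (arrToS G g) g _ hgb w₁
    ((Scheme.Pullback.exists_preimage_pullback (f := G.t) (g := g) x ⟨C.v, hv⟩ ((hst x hr).2.trans hgv.symm)).elim
      fun y hy => by rw [← huniq₁ y hy.1 hy.2]; show G.s (pullback.fst G.t g y) = _; rw [hy.1, (hst x hr).1, hgv])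
  have hsP : arrInS G g (ιP C U₂ hle hτ p) = ⟨C.v, hv⟩ := by
    rw [← Scheme.Hom.comp_apply, ιP_s]
    exact U₂.ι.isOpenEmbedding.injective (by rw [← Scheme.Hom.comp_apply, π2_ι, hpπ]; rfl)
  have htP : arrInT G g (ιP C U₂ hle hτ p) = ⟨C.v, hv⟩ := by
    rw [← Scheme.Hom.comp_apply, ιP_t]
    exact U₂.ι.isOpenEmbedding.injective (by rw [← Scheme.Hom.comp_apply, τ2_ι, hτv p hpπ]; rfl)
  have hιP : arrInι G g (ιP C U₂ hle hτ p) = x := by rw [← Scheme.Hom.comp_apply, ιP_ι, hpρ]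
  rw [huniq₂ (ιP C U₂ hle hτ p) (huniq₁ _ hιP htP) hsP]
  exact (huniq₂ r' (huniq₁ _ rfl ht) hs).symm

end Point

end

variable {S : Scheme.{u}} (G : Grpd.GroupoidScheme S)

/-- Splitting over a finite set of arrows which is closed under composition and inversion. -/
theorem exists_split [IsAffine G.U] [IsSeparated G.s] [IsSeparated G.t] [Flat G.s] [Flat G.t]
    [LocallyOfFinitePresentation G.s] [LocallyOfFinitePresentation G.t] (u : G.U) (H : Set G.R)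
    (hfin : H.Finite) (hqf : ∀ r ∈ H, G.s.QuasiFiniteAt r) (hst : ∀ r ∈ H, G.s r = u ∧ G.t r = u)
    (heu : G.e u ∈ H) (hc : ∀ z, pullback.fst G.s G.t z ∈ H → pullback.snd G.s G.t z ∈ H → G.c z ∈ H)
    (hi : ∀ r ∈ H, G.i r ∈ H) :
    ∃ (G' : Grpd.GroupoidScheme S) (φ : Grpd.GroupoidScheme.Hom G' G) (u' : ↥G'.U),
      IsAffine G'.U ∧ Etale φ.fU ∧ φ.fU u' = u ∧ IsIso (φ.fU.residueFieldMap u') ∧
      IsPullback φ.fR G'.j G.j
        (pullback.map G'.pU G'.pU G.pU G.pU φ.fU φ.fU (𝟙 S)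
          ((Category.comp_id _).trans φ.fU_over.symm) ((Category.comp_id _).trans φ.fU_over.symm)) ∧
      ∃ (P : Scheme.{u}) (ιP : P ⟶ G'.R), IsOpenImmersion ιP ∧
        (∃ eP : G'.U ⟶ P, eP ≫ ιP = G'.e) ∧ (∃ iP : P ⟶ P, iP ≫ ιP = ιP ≫ G'.i) ∧
        (∃ cP : pullback (ιP ≫ G'.s) (ιP ≫ G'.t) ⟶ P,
          cP ≫ ιP = pullback.map (ιP ≫ G'.s) (ιP ≫ G'.t) G'.s G'.t ιP ιP (𝟙 G'.U)
            (Category.comp_id _) (Category.comp_id _) ≫ G'.c) ∧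
        IsFinite (ιP ≫ G'.s) ∧ IsFinite (ιP ≫ G'.t) ∧
        ∀ r' : ↥G'.R, G'.s r' = u' → G'.t r' = u' → φ.fR r' ∈ H → ∃ p : ↥P, ιP p = r' := by
  obtain ⟨C⟩ := exists_chart G.s u H hfin fun r hr => ⟨(hst r hr).1, hqf r hr⟩
  haveI := C.etale
  have hv := v_mem_U₁ C hst heu hc hi
  have hτ₁ := range_τP_U₁ C (U₁ C) le_rfl
  obtain ⟨eP, heP⟩ := exists_eP C (U₁ C) le_rfl hτ₁
  obtain ⟨iP, hiP, -⟩ := exists_iP C (U₁ C) le_rfl hτ₁
  obtain ⟨cP, hcP⟩ := exists_cP C (U₁ C) le_rfl hτ₁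
  let G₁ := sub (restr G (gU C (U₁ C))) (ιP C (U₁ C) le_rfl hτ₁) eP heP iP hiP cP hcP
  obtain ⟨hfs, hft⟩ := isFinite_ιP C (U₁ C) le_rfl hτ₁
  haveI : IsFinite G₁.s := hfs
  haveI : IsFinite G₁.t := hft
  haveI : Etale (gU C (U₁ C)) := inferInstance
  have hpieces : Flat G₁.s ∧ LocallyOfFinitePresentation G₁.s ∧ Flat G₁.t ∧ LocallyOfFinitePresentation G₁.t := by
    let g := gU C (U₁ C)
    haveI : Etale (pullback.fst G.t g) := inferInstance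
    haveI h1 : Flat (arrToS G g) ∧ LocallyOfFinitePresentation (arrToS G g) := by
      constructor <;> (unfold GrpdQuot.arrToS; infer_instance)
    have hs : Flat (restr G g).s ∧ LocallyOfFinitePresentation (restr G g).s :=
      ⟨haveI := h1.1; inferInstanceAs (Flat (pullback.snd (arrToS G g) g)),
        haveI := h1.2; inferInstanceAs (LocallyOfFinitePresentation (pullback.snd (arrToS G g) g))⟩
    have ht : Flat (restr G g).t ∧ LocallyOfFinitePresentation (restr G g).t := by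
      haveI := hs.1
      haveI := hs.2
      rw [← (restr G g).i_s]
      haveI := GrpdQuot.isIso_i (restr G g)
      exact ⟨inferInstance, inferInstance⟩
    haveI := hs.1
    haveI := hs.2
    haveI := ht.1
    haveI := ht.2
    exact ⟨inferInstanceAs (Flat (ιP C (U₁ C) le_rfl hτ₁ ≫ _)),
      inferInstanceAs (LocallyOfFinitePresentation (ιP C (U₁ C) le_rfl hτ₁ ≫ _)),
      inferInstanceAs (Flat (ιP C (U₁ C) le_rfl hτ₁ ≫ _)),
      inferInstanceAs (LocallyOfFinitePresentation (ιP C (U₁ C) le_rfl hτ₁ ≫ _))⟩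
  obtain ⟨h1, h2, h3, h4⟩ := hpieces
  let v₁ : G₁.U := (⟨C.v, hv⟩ : (U₁ C).toScheme)
  obtain ⟨_, ⟨A, hA, rfl⟩, hvA, -⟩ :=
    G₁.U.isBasis_affineOpens.exists_subset_of_mem_open (Set.mem_univ v₁) isOpen_univ
  have hGs : ∀ p : PP C (U₁ C), (U₁ C).ι (G₁.s p) = πP C (U₁ C) p := fun p => by
    show (U₁ C).ι ((ιP C (U₁ C) le_rfl hτ₁ ≫ arrInS G (gU C (U₁ C))) p) = _
    rw [ιP_s, ← Scheme.Hom.comp_apply, π2_ι]
  have hGt : ∀ p : PP C (U₁ C), (U₁ C).ι (G₁.t p) = τP C (U₁ C) le_rfl p := fun p => by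
    show (U₁ C).ι ((ιP C (U₁ C) le_rfl hτ₁ ≫ arrInT G (gU C (U₁ C))) p) = _
    rw [ιP_t, ← Scheme.Hom.comp_apply, τ2_ι]
  obtain ⟨W, hWa, hvW, hW⟩ := Groth.Agent.S1881.result S G₁ v₁ A hA fun r hr => by
    have hr' : (U₁ C).ι (G₁.t r) = C.v := (hGt r).trans (τ2_v C (U₁ C) le_rfl hst hc hi r
      ((hGs r).symm.trans (congrArg (U₁ C).ι hr)))
    rwa [show G₁.t r = v₁ from (U₁ C).ι.isOpenEmbedding.injective hr']
  let U₂ : C.V.Opens := (U₁ C).ι ''ᵁ W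
  have hle : U₂ ≤ U₁ C := (U₁ C).ι_image_le W
  have hvU₂ : C.v ∈ U₂ := ⟨v₁, hvW, rfl⟩
  have hτ₂ : Set.range (τP C U₂ hle) ⊆ U₂ := by
    rintro _ ⟨p, rfl⟩
    let q : PP C (U₁ C) := ⟨p.1, hle p.2⟩
    have hτq : τP C U₂ hle p = τP C (U₁ C) le_rfl q := by
      rw [τP, τP, Scheme.Hom.comp_apply, Scheme.Hom.comp_apply]
      refine congrArg (τ₀ C) ((G₀ C).ι.isOpenEmbedding.injective ?_)
      rw [← Scheme.Hom.comp_apply, ← Scheme.Hom.comp_apply, cG_ι, cG_ι]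
      rfl
    obtain ⟨y, hyW, hy⟩ := p.2
    have hsW : G₁.s q ∈ W := by
      rw [show G₁.s q = y from (U₁ C).ι.isOpenEmbedding.injective ((hGs q).trans hy.symm)]
      exact hyW
    have htW : G₁.t q ∈ W := (hW.le hsW :)
    exact ⟨G₁.t q, htW, (hGt q).trans hτq.symm⟩
  haveI : IsAffine (U₂ : Scheme.{u}) := hWa.image_of_isOpenImmersion (U₁ C).ι
  obtain ⟨eP₂, heP₂⟩ := exists_eP C U₂ hle hτ₂
  obtain ⟨iP₂, hiP₂, -⟩ := exists_iP C U₂ hle hτ₂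
  obtain ⟨cP₂, hcP₂⟩ := exists_cP C U₂ hle hτ₂
  obtain ⟨hfs₂, hft₂⟩ := isFinite_ιP C U₂ hle hτ₂
  refine ⟨restr G (gU C U₂), restrHom G (gU C U₂), (⟨C.v, hvU₂⟩ : U₂.toScheme), ‹_›,
    inferInstanceAs (Etale (U₂.ι ≫ C.q)), C.base_eq, ?_, isPullback_restr G _, PP C U₂, ιP C U₂ hle hτ₂,
    inferInstance, ⟨eP₂, heP₂⟩, ⟨iP₂, hiP₂⟩, ⟨cP₂, hcP₂⟩, hfs₂, hft₂, fun r' hs ht hr => ?_⟩
  · refine (ConcreteCategory.isIso_iff_bijective _).mpr ?_
    have hiso : ∀ x : ↥(U₂ : Scheme.{u}), IsIso (U₂.ι.residueFieldMap x) := fun x => inferInstance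
    exact Weight.residueFieldMap_bijective_of_comp _ _ _
      ((ConcreteCategory.isIso_iff_bijective _).mp (hiso ⟨C.v, hvU₂⟩)) C.residue_bijective
  · exact mem_range_ιP C U₂ hle hτ₂ hst hvU₂ (fun p hp => τ2_v C U₂ hle hst hc hi p hp) r' hs ht hr

end GrothLib.GrpdSplit13
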