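import Groth.Agent.Lib.GrpdQuot.RestrictMono
import Groth.Agent.Lib.GrpdQuot.EquivRel

/-!
# Restriction of a groupoid scheme along a morphism to the objects, and subgroupoids
-/

set_option autoImplicit false
universe u

open CategoryTheory CategoryTheory.Limits AlgebraicGeometry

namespace GrothLib.GrpdSplit13

open GrothLib.GrpSchField (cmp cmp_congr comp_cmp)
open GrothLib.GrpdQuot (arrIn arrInι arrInS arrInT arrInMk arrInMk_ι arrInMk_s arrInMk_t arrInι_s arrInι_t
  arrInι_s_assoc arrInι_t_assoc arrToS cmp_s cmp_t)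

noncomputable section

variable {S : Scheme.{u}} (G : Grpd.GroupoidScheme S) {U' : Scheme.{u}} (g : U' ⟶ G.U)

theorem arrIn_ext {T : Scheme.{u}} {α β : T ⟶ arrIn G g} (hι : α ≫ arrInι G g = β ≫ arrInι G g)
    (ht : α ≫ arrInT G g = β ≫ arrInT G g) (hs : α ≫ arrInS G g = β ≫ arrInS G g) : α = β := by
  refine pullback.hom_ext (pullback.hom_ext ?_ ?_) hs
  · exact (Category.assoc _ _ _).trans (hι.trans (Category.assoc _ _ _).symm)
  · exact (Category.assoc _ _ _).trans (ht.trans (Category.assoc _ _ _).symm)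

theorem arrIn_comp {T : Scheme.{u}} {α β : T ⟶ arrIn G g} (h : α ≫ arrInS G g = β ≫ arrInT G g) :
    (α ≫ arrInι G g) ≫ G.s = (β ≫ arrInι G g) ≫ G.t := by
  rw [Category.assoc, Category.assoc, arrInι_s, arrInι_t, reassoc_of% h]

/-- Composition of arrows with source and target in `U'`. -/
def restrC : pullback (arrInS G g) (arrInT G g) ⟶ arrIn G g :=
  arrInMk G g (cmp G (pullback.fst _ _ ≫ arrInι G g) (pullback.snd _ _ ≫ arrInι G g)
      (arrIn_comp G g pullback.condition))
    (pullback.fst _ _ ≫ arrInT G g) (pullback.snd _ _ ≫ arrInS G g)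
    (by rw [cmp_t, Category.assoc, Category.assoc, arrInι_t])
    (by rw [cmp_s, Category.assoc, Category.assoc, arrInι_s])

theorem restrC_ι {T : Scheme.{u}} (α β : T ⟶ arrIn G g) (h : α ≫ arrInS G g = β ≫ arrInT G g) :
    (pullback.lift α β h ≫ restrC G g) ≫ arrInι G g =
      cmp G (α ≫ arrInι G g) (β ≫ arrInι G g) (arrIn_comp G g h) := by
  rw [Category.assoc, restrC, arrInMk_ι, comp_cmp]
  exact cmp_congr G _ (pullback.lift_fst_assoc _ _ _ _) (pullback.lift_snd_assoc _ _ _ _)

theorem restrC_t {T : Scheme.{u}} (α β : T ⟶ arrIn G g) (h : α ≫ arrInS G g = β ≫ arrInT G g) :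
    (pullback.lift α β h ≫ restrC G g) ≫ arrInT G g = α ≫ arrInT G g := by
  rw [Category.assoc, restrC, arrInMk_t, pullback.lift_fst_assoc]

theorem restrC_s {T : Scheme.{u}} (α β : T ⟶ arrIn G g) (h : α ≫ arrInS G g = β ≫ arrInT G g) :
    (pullback.lift α β h ≫ restrC G g) ≫ arrInS G g = β ≫ arrInS G g := by
  rw [Category.assoc, restrC, arrInMk_s, pullback.lift_snd_assoc]

/-- The identities of the restriction. -/
def restrE : U' ⟶ arrIn G g :=
  arrInMk G g (g ≫ G.e) (𝟙 _) (𝟙 _)
    (by rw [Category.assoc, G.e_t, Category.comp_id, Category.id_comp])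
    (by rw [Category.assoc, G.e_s, Category.comp_id, Category.id_comp])

/-- The inverse of the restriction. -/
def restrI : arrIn G g ⟶ arrIn G g :=
  arrInMk G g (arrInι G g ≫ G.i) (arrInS G g) (arrInT G g)
    (by rw [Category.assoc, G.i_t, arrInι_s]) (by rw [Category.assoc, G.i_s, arrInι_t])

@[reassoc]
theorem restrE_ι : restrE G g ≫ arrInι G g = g ≫ G.e := arrInMk_ι _ _ _ _ _ _ _

@[reassoc]
theorem restrE_t : restrE G g ≫ arrInT G g = 𝟙 _ := arrInMk_t _ _ _ _ _ _ _

@[reassoc]
theorem restrE_s : restrE G g ≫ arrInS G g = 𝟙 _ := arrInMk_s _ _ _ _ _ _ _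

@[reassoc]
theorem restrI_ι : restrI G g ≫ arrInι G g = arrInι G g ≫ G.i := arrInMk_ι _ _ _ _ _ _ _

@[reassoc]
theorem restrI_t : restrI G g ≫ arrInT G g = arrInS G g := arrInMk_t _ _ _ _ _ _ _

@[reassoc]
theorem restrI_s : restrI G g ≫ arrInS G g = arrInT G g := arrInMk_s _ _ _ _ _ _ _

/-- The restriction of a groupoid scheme along a morphism to the objects. -/
def restr : Grpd.GroupoidScheme S where
  U := U'
  R := arrIn G g
  pU := g ≫ G.pU
  pR := arrInι G g ≫ G.pR
  s := arrInS G g
  t := arrInT G g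
  e := restrE G g
  i := restrI G g
  c := restrC G g
  s_over := by rw [← arrInι_s_assoc, G.s_over]
  t_over := by rw [← arrInι_t_assoc, G.t_over]
  comp_s α β h := restrC_s G g α β h
  comp_t α β h := restrC_t G g α β h
  assoc α β γ h₁ h₂ := by
    refine arrIn_ext G g ?_ ?_ ?_
    · refine (restrC_ι G g _ _ _).trans ?_
      refine (cmp_congr G _ (restrC_ι G g α β h₁) rfl).trans ?_
      refine (G.assoc _ _ _ (arrIn_comp G g h₁) (arrIn_comp G g h₂)).trans ?_
      refine (cmp_congr G _ rfl (restrC_ι G g β γ h₂).symm).trans ?_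
      exact (restrC_ι G g _ _ _).symm
    · rw [restrC_t, restrC_t, restrC_t]
    · rw [restrC_s, restrC_s, restrC_s]
  e_s := restrE_s G g
  e_t := restrE_t G g
  comp_e α := by
    refine arrIn_ext G g ?_ (restrC_t G g _ _ _) ?_
    · rw [restrC_ι]
      refine (cmp_congr G _ rfl ?_).trans (G.comp_e _)
      simp only [Category.assoc, restrE_ι, restrI_ι, arrInMk_ι, arrInι_s_assoc]
    · rw [restrC_s]; simp only [Category.assoc, restrE_s, restrI_s, Category.comp_id]
  e_comp α := by
    refine arrIn_ext G g ?_ ?_ (restrC_s G g _ _ _)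
    · rw [restrC_ι]
      refine (cmp_congr G _ ?_ rfl).trans (G.e_comp _)
      simp only [Category.assoc, restrE_ι, restrI_ι, arrInMk_ι, arrInι_t_assoc]
    · rw [restrC_t]; simp only [Category.assoc, restrE_t, restrI_t, Category.comp_id]
  i_s := restrI_s G g
  i_t := restrI_t G g
  comp_i α := by
    refine arrIn_ext G g ?_ ?_ ?_
    · rw [restrC_ι]
      refine (cmp_congr G _ rfl (by rw [Category.assoc, restrI_ι, ← Category.assoc])).trans
        ((G.comp_i _).trans ?_)
      simp only [Category.assoc, restrE_ι, restrI_ι, arrInMk_ι, arrInι_t_assoc]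
    · rw [restrC_t]; simp only [Category.assoc, restrE_t, restrI_t, Category.comp_id]
    · rw [restrC_s]; simp only [Category.assoc, restrE_s, restrI_s, Category.comp_id]
  i_comp α := by
    refine arrIn_ext G g ?_ ?_ ?_
    · rw [restrC_ι]
      refine (cmp_congr G _ (by rw [Category.assoc, restrI_ι, ← Category.assoc]) rfl).trans
        ((G.i_comp _).trans ?_)
      simp only [Category.assoc, restrE_ι, restrI_ι, arrInMk_ι, arrInι_s_assoc]
    · rw [restrC_t]; simp only [Category.assoc, restrE_t, restrI_t, Category.comp_id]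
    · rw [restrC_s]; simp only [Category.assoc, restrE_s, restrI_s, Category.comp_id]

/-- The morphism to the original groupoid scheme. -/
def restrHom : Grpd.GroupoidScheme.Hom (restr G g) G where
  fU := g
  fR := arrInι G g
  fU_over := rfl
  comm_s := arrInι_s G g
  comm_t := arrInι_t G g
  comm_c α β h := restrC_ι G g α β h

/-- The square defining the restriction is cartesian. -/
theorem isPullback_restr :
    IsPullback (restrHom G g).fR (restr G g).j G.j
      (pullback.map (restr G g).pU (restr G g).pU G.pU G.pU (restrHom G g).fU (restrHom G g).fU (𝟙 S)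
        ((Category.comp_id _).trans (restrHom G g).fU_over.symm)
        ((Category.comp_id _).trans (restrHom G g).fU_over.symm)) := by
  let pU := g ≫ G.pU
  let j' : arrIn G g ⟶ pullback pU pU := pullback.lift (arrInT G g) (arrInS G g)
    (by simp only [pU, ← arrInι_t_assoc, ← arrInι_s_assoc, G.t_over, G.s_over])
  show IsPullback (arrInι G g) j' G.j
    (pullback.map pU pU G.pU G.pU g g (𝟙 S) (Category.comp_id _) (Category.comp_id _))
  refine IsPullback.mk' ?_ (fun T φ φ' h₁ h₂ => ?_) fun T a b hab => ?_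
  · apply pullback.hom_ext
    · simp only [j', Grpd.GroupoidScheme.j, Category.assoc, pullback.lift_fst, pullback.lift_fst_assoc, arrInι_t]
    · simp only [j', Grpd.GroupoidScheme.j, Category.assoc, pullback.lift_snd, pullback.lift_snd_assoc, arrInι_s]
  · refine arrIn_ext G g h₁ ?_ ?_
    · simpa only [j', Category.assoc, pullback.lift_fst] using congrArg (· ≫ pullback.fst pU pU) h₂
    · simpa only [j', Category.assoc, pullback.lift_snd] using congrArg (· ≫ pullback.snd pU pU) h₂
  · have e₁ := congrArg (· ≫ pullback.fst G.pU G.pU) hab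
    have e₂ := congrArg (· ≫ pullback.snd G.pU G.pU) hab
    simp only [Grpd.GroupoidScheme.j, Category.assoc, pullback.lift_fst, pullback.lift_snd] at e₁ e₂
    refine ⟨arrInMk G g a (b ≫ pullback.fst pU pU) (b ≫ pullback.snd pU pU)
      (by rw [e₁, Category.assoc]) (by rw [e₂, Category.assoc]), arrInMk_ι _ _ _ _ _ _ _, ?_⟩
    apply pullback.hom_ext
    · rw [Category.assoc, pullback.lift_fst, arrInMk_t]
    · rw [Category.assoc, pullback.lift_snd, arrInMk_s]

section Sub

variable {P : Scheme.{u}} (ι : P ⟶ G.R) [Mono ι] (eP : G.U ⟶ P) (he : eP ≫ ι = G.e) (iP : P ⟶ P)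
  (hi : iP ≫ ι = ι ≫ G.i) (cP : pullback (ι ≫ G.s) (ι ≫ G.t) ⟶ P)
  (hc : cP ≫ ι = pullback.map (ι ≫ G.s) (ι ≫ G.t) G.s G.t ι ι (𝟙 G.U) (Category.comp_id _) (Category.comp_id _) ≫ G.c)

include hc in
theorem subC_ι {T : Scheme.{u}} (α β : T ⟶ P) (h : α ≫ ι ≫ G.s = β ≫ ι ≫ G.t) :
    (pullback.lift α β h ≫ cP) ≫ ι =
      cmp G (α ≫ ι) (β ≫ ι) (by rw [Category.assoc, Category.assoc, h]) := by
  rw [Category.assoc, hc, ← Category.assoc]
  refine congrArg (· ≫ G.c) ?_
  apply pullback.hom_ext
  · rw [Category.assoc, pullback.lift_fst, pullback.lift_fst_assoc, pullback.lift_fst]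
  · rw [Category.assoc, pullback.lift_snd, pullback.lift_snd_assoc, pullback.lift_snd]

/-- A subgroupoid with the same objects. -/
def sub : Grpd.GroupoidScheme S where
  U := G.U
  R := P
  pU := G.pU
  pR := ι ≫ G.pR
  s := ι ≫ G.s
  t := ι ≫ G.t
  e := eP
  i := iP
  c := cP
  s_over := by rw [Category.assoc, G.s_over]
  t_over := by rw [Category.assoc, G.t_over]
  comp_s α β h := by rw [← Category.assoc, subC_ι G ι cP hc α β h, cmp_s, Category.assoc]
  comp_t α β h := by rw [← Category.assoc, subC_ι G ι cP hc α β h, cmp_t, Category.assoc]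
  assoc α β γ h₁ h₂ := by
    rw [← cancel_mono ι]
    refine (subC_ι G ι cP hc _ _ _).trans ?_
    refine (cmp_congr G _ (subC_ι G ι cP hc α β h₁) rfl).trans ?_
    refine (G.assoc _ _ _ (by rw [Category.assoc, Category.assoc, h₁])
      (by rw [Category.assoc, Category.assoc, h₂])).trans ?_
    refine (cmp_congr G _ rfl (subC_ι G ι cP hc β γ h₂).symm).trans ?_
    exact (subC_ι G ι cP hc _ _ _).symm
  e_s := by rw [reassoc_of% he, G.e_s]
  e_t := by rw [reassoc_of% he, G.e_t]
  comp_e α := by
    rw [← cancel_mono ι, subC_ι G ι cP hc]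
    refine (cmp_congr G _ rfl ?_).trans (G.comp_e _)
    simp only [Category.assoc, he]
  e_comp α := by
    rw [← cancel_mono ι, subC_ι G ι cP hc]
    refine (cmp_congr G _ ?_ rfl).trans (G.e_comp _)
    simp only [Category.assoc, he]
  i_s := by rw [reassoc_of% hi, G.i_s]
  i_t := by rw [reassoc_of% hi, G.i_t]
  comp_i α := by
    rw [← cancel_mono ι, subC_ι G ι cP hc]
    refine (cmp_congr G _ rfl (by rw [Category.assoc, hi, ← Category.assoc])).trans ((G.comp_i _).trans ?_)
    simp only [Category.assoc, he]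
  i_comp α := by
    rw [← cancel_mono ι, subC_ι G ι cP hc]
    refine (cmp_congr G _ (by rw [Category.assoc, hi, ← Category.assoc]) rfl).trans ((G.i_comp _).trans ?_)
    simp only [Category.assoc, he]

end Sub

end

end GrothLib.GrpdSplit13
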