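import Groth.Agent.Lib.GrpdSplit13.Chart
import Groth.Agent.Lib.GrpdSplit13.Restr

/-!
# Translation of finite parts: the split subgroupoid
-/

set_option autoImplicit false
set_option linter.style.haveILetI false
set_option backward.isDefEq.respectTransparency false
universe u

open CategoryTheory CategoryTheory.Limits AlgebraicGeometry

namespace GrothLib.GrpdSplit13

open GrothLib.GrpSchField (cmp cmp_congr comp_cmp cmp_inv_right cmp_inv_right')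
open GrothLib.GrpdQuot (arrIn arrInι arrInS arrInT arrInMk arrInMk_ι arrInMk_s arrInMk_t arrToS cmp_s cmp_t
  cmp_assoc)

noncomputable section

variable {S : Scheme.{u}} {G : Grpd.GroupoidScheme S} {H : Set G.R} {u : G.U} (C : Chart G.s H u)

theorem preimage_congr {X Y : Scheme.{u}} {f g : X ⟶ Y} (e : f = g) (Z : Y.Opens) : f ⁻¹ᵁ Z = g ⁻¹ᵁ Z := by
  rw [e]

/-- The locus where an arrow lies in the part over a point of the chart. -/
def loc {T : Scheme.{u}} (b : T ⟶ C.V) (r : T ⟶ G.R) (h : r ≫ G.s = b ≫ C.q) : T.Opens :=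
  pullback.lift r b h ⁻¹ᵁ C.Z

theorem loc_congr {T : Scheme.{u}} {b b' : T ⟶ C.V} {r r' : T ⟶ G.R} (h : r ≫ G.s = b ≫ C.q)
    (eb : b = b') (er : r = r') : loc C b r h = loc C b' r' (by rw [← eb, ← er, h]) := by
  subst eb er; rfl

theorem preimage_loc {T' T : Scheme.{u}} (c : T' ⟶ T) (b : T ⟶ C.V) (r : T ⟶ G.R) (h : r ≫ G.s = b ≫ C.q) :
    c ⁻¹ᵁ loc C b r h = loc C (c ≫ b) (c ≫ r) (by rw [Category.assoc, h, Category.assoc]) := by
  rw [loc, loc, ← Scheme.Hom.comp_preimage]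
  refine preimage_congr ?_ _
  apply pullback.hom_ext <;> simp

theorem pre_eq_loc {T : Scheme.{u}} {a : T ⟶ G.U} (b : T ⟶ C.V) (h : b ≫ C.q = a) :
    pre G.s C.q C.Z b h = loc C (pullback.snd G.s a ≫ b) (pullback.fst G.s a)
      (by rw [Category.assoc, h, pullback.condition]) := rfl

theorem loc_eq_top {T : Scheme.{u}} (b : T ⟶ C.V) (r : T ⟶ G.R) (h : r ≫ G.s = b ≫ C.q)
    (hh : ∀ t, pullback.lift r b h t ∈ C.Z) : loc C b r h = ⊤ :=
  top_le_iff.1 fun t _ => hh t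

/-- Points of the chart are determined by the translated parts. -/
theorem uniq_loc {T : Scheme.{u}} (b b' : T ⟶ C.V) (h : b ≫ C.q = b' ≫ C.q)
    (e : ∀ {T' : Scheme.{u}} (c : T' ⟶ T) (r : T' ⟶ G.R) (hr : r ≫ G.s = (c ≫ b) ≫ C.q),
      loc C (c ≫ b) r hr = loc C (c ≫ b') r (by rw [hr, Category.assoc, h, Category.assoc])) : b = b' := by
  refine C.uniq b b' rfl h.symm ?_
  rw [pre_eq_loc, pre_eq_loc]
  exact e _ _ _

variable [IsSeparated G.s] [Flat G.s] [LocallyOfFinitePresentation G.s]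

/-- The arrows of the parts. -/
abbrev P₀ : Scheme.{u} := C.Z.toScheme

/-- The arrow. -/
def ρ₀ : P₀ C ⟶ G.R := C.Z.ι ≫ pullback.fst G.s C.q

/-- The point of the chart under an arrow. -/
def π₀ : P₀ C ⟶ C.V := C.Z.ι ≫ pullback.snd G.s C.q

@[reassoc]
theorem ρ₀_s : ρ₀ C ≫ G.s = π₀ C ≫ C.q := by
  rw [ρ₀, π₀, Category.assoc, Category.assoc, pullback.condition]

theorem exists_lift_P₀ {T : Scheme.{u}} (b : T ⟶ C.V) (r : T ⟶ G.R) (h : r ≫ G.s = b ≫ C.q)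
    (hl : loc C b r h = ⊤) : ∃ c : T ⟶ P₀ C, c ≫ π₀ C = b ∧ c ≫ ρ₀ C = r := by
  have hr : Set.range (pullback.lift r b h) ⊆ Set.range C.Z.ι := by
    rw [Scheme.Opens.range_ι]
    rintro _ ⟨t, rfl⟩
    exact hl.ge (TopologicalSpace.Opens.mem_top t)
  refine ⟨IsOpenImmersion.lift C.Z.ι _ hr, ?_, ?_⟩
  · rw [π₀, IsOpenImmersion.lift_fac_assoc, pullback.lift_snd]
  · rw [ρ₀, IsOpenImmersion.lift_fac_assoc, pullback.lift_fst]

theorem loc_P₀ {T : Scheme.{u}} (c : T ⟶ P₀ C) (h : (c ≫ ρ₀ C) ≫ G.s = (c ≫ π₀ C) ≫ C.q) :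
    loc C (c ≫ π₀ C) (c ≫ ρ₀ C) h = ⊤ := by
  refine loc_eq_top C _ _ _ fun t => ?_
  have : pullback.lift (c ≫ ρ₀ C) (c ≫ π₀ C) h = c ≫ C.Z.ι := by
    apply pullback.hom_ext <;> simp only [ρ₀, π₀, pullback.lift_fst, pullback.lift_snd, Category.assoc]
  rw [this]
  exact (c t).2

/-- The base of the translated family. -/
abbrev aT : P₀ C ⟶ G.U := ρ₀ C ≫ G.t

theorem trans_cond : pullback.fst G.s (aT C) ≫ G.s = (pullback.snd G.s (aT C) ≫ ρ₀ C) ≫ G.t := by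
  rw [Category.assoc]; exact pullback.condition

/-- Translation by the universal arrow. -/
def Φ : pullback G.s (aT C) ⟶ pullback G.s (π₀ C ≫ C.q) :=
  pullback.lift (cmp G (pullback.fst G.s (aT C)) (pullback.snd G.s (aT C) ≫ ρ₀ C) (trans_cond C))
    (pullback.snd G.s (aT C)) (by rw [cmp_s, Category.assoc, ρ₀_s])

instance isIso_Φ : IsIso (Φ C) := by
  have h1 : pullback.fst G.s (π₀ C ≫ C.q) ≫ G.s =
      ((pullback.snd G.s (π₀ C ≫ C.q) ≫ ρ₀ C) ≫ G.i) ≫ G.t := by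
    rw [Category.assoc, Category.assoc, G.i_t, ρ₀_s, pullback.condition]
  let Ψ : pullback G.s (π₀ C ≫ C.q) ⟶ pullback G.s (aT C) :=
    pullback.lift (cmp G (pullback.fst G.s _) ((pullback.snd G.s _ ≫ ρ₀ C) ≫ G.i) h1) (pullback.snd G.s _)
      (by rw [cmp_s, Category.assoc, Category.assoc, G.i_s])
  refine ⟨Ψ, ?_, ?_⟩
  · apply pullback.hom_ext
    · rw [Category.assoc, pullback.lift_fst, comp_cmp, Category.id_comp]
      refine (cmp_congr G _ (pullback.lift_fst _ _ _) (by simp only [Φ, pullback.lift_snd_assoc, Category.assoc])).trans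
        (cmp_inv_right' G _ _ (trans_cond C) ?_)
      rw [cmp_s, Category.assoc, Category.assoc, Category.assoc, G.i_t]
    · rw [Category.assoc, pullback.lift_snd, Φ, pullback.lift_snd, Category.id_comp]
  · apply pullback.hom_ext
    · rw [Category.assoc, Φ, pullback.lift_fst, comp_cmp, Category.id_comp]
      refine (cmp_congr G _ (pullback.lift_fst _ _ _) (pullback.lift_snd_assoc _ _ _ _)).trans
        (cmp_inv_right G _ _ ?_ h1)
      rw [Category.assoc, ρ₀_s, pullback.condition]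
    · rw [Category.assoc, Φ, pullback.lift_snd, pullback.lift_snd, Category.id_comp]

/-- The translated family. -/
def Wt : (pullback G.s (aT C)).Opens := Φ C ⁻¹ᵁ pre G.s C.q C.Z (π₀ C) rfl

theorem isFinite_Wt : IsFinite ((Wt C).ι ≫ pullback.snd G.s (aT C)) := by
  have h := isFinite_pre G.s C.q (π₀ C) (rfl : π₀ C ≫ C.q = _) C.finite
  rw [show (Wt C).ι ≫ pullback.snd G.s (aT C) = (Φ C ∣_ pre G.s C.q C.Z (π₀ C) rfl) ≫
      (pre G.s C.q C.Z (π₀ C) rfl).ι ≫ pullback.snd G.s _ by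
    rw [morphismRestrict_ι_assoc]
    exact congrArg ((Wt C).ι ≫ ·) (pullback.lift_snd _ _ _).symm]
  haveI := h
  infer_instance

/-- The arrows whose translated part belongs to the chart. -/
def G₀ : (P₀ C).Opens := (C.classify (aT C) (Wt C) (isFinite_Wt C)).choose

/-- The translated point of the chart. -/
def τ₀ : (G₀ C).toScheme ⟶ C.V := (C.classify (aT C) (Wt C) (isFinite_Wt C)).choose_spec.choose

theorem τ₀_q : τ₀ C ≫ C.q = (G₀ C).ι ≫ aT C :=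
  (C.classify (aT C) (Wt C) (isFinite_Wt C)).choose_spec.choose_spec.choose

theorem loc_trans {T : Scheme.{u}} (c : T ⟶ P₀ C) (r : T ⟶ G.R) (h : r ≫ G.s = c ≫ aT C) :
    pullback.lift r c h ⁻¹ᵁ Wt C = loc C (c ≫ π₀ C)
      (cmp G r (c ≫ ρ₀ C) (by rw [h, Category.assoc]))
      (by rw [cmp_s, Category.assoc, ρ₀_s, Category.assoc]) := by
  rw [Wt, pre, loc, ← Scheme.Hom.comp_preimage, ← Scheme.Hom.comp_preimage]
  refine preimage_congr ?_ _
  apply pullback.hom_ext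
  · simp only [Φ, Category.assoc, pullback.lift_fst]
    rw [comp_cmp]
    exact cmp_congr G _ (pullback.lift_fst _ _ _) (pullback.lift_snd_assoc _ _ _ _)
  · simp only [Φ, Category.assoc, pullback.lift_snd, pullback.lift_snd_assoc]

/-- The part at the translated point is the translated part. -/
theorem key {T : Scheme.{u}} (c : T ⟶ (G₀ C).toScheme) (r : T ⟶ G.R) (h : r ≫ G.s = (c ≫ τ₀ C) ≫ C.q) :
    loc C (c ≫ τ₀ C) r h = loc C ((c ≫ (G₀ C).ι) ≫ π₀ C)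
      (cmp G r ((c ≫ (G₀ C).ι) ≫ ρ₀ C) (by rw [h, Category.assoc, τ₀_q, Category.assoc, Category.assoc]))
      (by rw [cmp_s, Category.assoc, Category.assoc, ρ₀_s, Category.assoc, Category.assoc]) := by
  have hspec := (C.classify (aT C) (Wt C) (isFinite_Wt C)).choose_spec.choose_spec.choose_spec.1
  have hl : r ≫ G.s = c ≫ (G₀ C).ι ≫ aT C := by rw [h, Category.assoc, τ₀_q]
  rw [← loc_trans C (c ≫ (G₀ C).ι) r (by rw [hl, Category.assoc])]
  have e1 : pullback.lift r c hl ⁻¹ᵁ pre G.s C.q C.Z (τ₀ C) (τ₀_q C) = loc C (c ≫ τ₀ C) r h := by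
    rw [pre, loc, ← Scheme.Hom.comp_preimage]
    refine preimage_congr ?_ _
    apply pullback.hom_ext <;> simp
  rw [← e1, show pre G.s C.q C.Z (τ₀ C) (τ₀_q C) = pre G.s (aT C) (Wt C) (G₀ C).ι rfl from hspec, pre,
    ← Scheme.Hom.comp_preimage]
  refine preimage_congr ?_ _
  apply pullback.hom_ext <;> simp

/-- The universal property of the arrows whose translated part belongs to the chart. -/
theorem range_subset_G₀ {T : Scheme.{u}} (c : T ⟶ P₀ C) (b : T ⟶ C.V) (hb : b ≫ C.q = c ≫ aT C)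
    (e : ∀ {T' : Scheme.{u}} (d : T' ⟶ T) (r : T' ⟶ G.R) (hr : r ≫ G.s = (d ≫ b) ≫ C.q),
      loc C (d ≫ b) r hr = loc C ((d ≫ c) ≫ π₀ C)
        (cmp G r ((d ≫ c) ≫ ρ₀ C) (by rw [hr, Category.assoc, hb, Category.assoc, Category.assoc]))
        (by rw [cmp_s, Category.assoc, Category.assoc, ρ₀_s, Category.assoc, Category.assoc])) :
    Set.range c ⊆ G₀ C := by
  refine (C.classify (aT C) (Wt C) (isFinite_Wt C)).choose_spec.choose_spec.choose_spec.2 c b hb ?_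
  rw [pre_eq_loc, e, ← loc_trans C (pullback.snd G.s (c ≫ aT C) ≫ c) (pullback.fst G.s (c ≫ aT C))
    (by rw [Category.assoc, pullback.condition])]
  rfl

/-- The points of the chart with the identity in their part. -/
def V₀ : C.V.Opens :=
  pullback.lift (C.q ≫ G.e) (𝟙 C.V) (by rw [Category.assoc, G.e_s, Category.comp_id, Category.id_comp]) ⁻¹ᵁ C.Z

theorem loc_e {T : Scheme.{u}} (b : T ⟶ C.V) (h : (b ≫ C.q ≫ G.e) ≫ G.s = b ≫ C.q) :
    loc C b (b ≫ C.q ≫ G.e) h = b ⁻¹ᵁ V₀ C := by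
  rw [loc, V₀, ← Scheme.Hom.comp_preimage]
  refine preimage_congr ?_ _
  apply pullback.hom_ext <;> simp

/-- The points all of whose arrows can be translated. -/
def U₁ : C.V.Opens :=
  V₀ C ⊓ ⟨(⇑(π₀ C) '' (G₀ C : Set (P₀ C))ᶜ)ᶜ, by
    haveI : IsFinite (π₀ C) := C.finite
    exact ((π₀ C).isClosedMap _ (G₀ C).isOpen.isClosed_compl).isOpen_compl⟩

theorem mem_U₁ (v : C.V) : v ∈ U₁ C ↔ v ∈ V₀ C ∧ ∀ p, π₀ C p = v → p ∈ G₀ C := by
  show v ∈ V₀ C ∧ v ∈ (⇑(π₀ C) '' (G₀ C : Set (P₀ C))ᶜ)ᶜ ↔ _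
  refine and_congr Iff.rfl ⟨fun h p hp => ?_, ?_⟩
  · by_contra hn
    exact h ⟨p, hn, hp⟩
  · rintro h ⟨p, hn, hp⟩
    exact hn (h p hp)

variable (U₂ : C.V.Opens)

/-- The arrows over an open part of the chart. -/
abbrev PP : Scheme.{u} := (π₀ C ⁻¹ᵁ U₂).toScheme

/-- The arrow. -/
def ρP : PP C U₂ ⟶ G.R := (π₀ C ⁻¹ᵁ U₂).ι ≫ ρ₀ C

/-- The source point. -/
def πP : PP C U₂ ⟶ C.V := (π₀ C ⁻¹ᵁ U₂).ι ≫ π₀ C

variable (hle : U₂ ≤ U₁ C)

/-- The lift of the arrows to the translatable ones. -/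
def cG : PP C U₂ ⟶ (G₀ C).toScheme :=
  (P₀ C).homOfLE (fun p hp => ((mem_U₁ C _).1 (hle hp)).2 p rfl)

@[reassoc]
theorem cG_ι : cG C U₂ hle ≫ (G₀ C).ι = (π₀ C ⁻¹ᵁ U₂).ι := Scheme.homOfLE_ι _ _

/-- The target point. -/
def τP : PP C U₂ ⟶ C.V := cG C U₂ hle ≫ τ₀ C

@[reassoc]
theorem τP_q : τP C U₂ hle ≫ C.q = ρP C U₂ ≫ G.t := by
  rw [τP, Category.assoc, τ₀_q, cG_ι_assoc, ρP, Category.assoc]

@[reassoc]
theorem ρP_s : ρP C U₂ ≫ G.s = πP C U₂ ≫ C.q := by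
  rw [ρP, πP, Category.assoc, Category.assoc, ρ₀_s]

theorem keyP {T : Scheme.{u}} (c : T ⟶ PP C U₂) (r : T ⟶ G.R) (h : r ≫ G.s = (c ≫ τP C U₂ hle) ≫ C.q) :
    loc C (c ≫ τP C U₂ hle) r h = loc C (c ≫ πP C U₂)
      (cmp G r (c ≫ ρP C U₂) (by rw [h, Category.assoc, τP_q, Category.assoc]))
      (by rw [cmp_s, Category.assoc, ρP_s, Category.assoc]) := by
  have := key C (c ≫ cG C U₂ hle) r (by rw [h, τP]; simp only [Category.assoc])
  refine (loc_congr C _ (by rw [τP, Category.assoc]) rfl).trans (this.trans ?_)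
  exact loc_congr C _ (by simp [πP, cG_ι_assoc]) (cmp_congr G _ rfl (by simp [ρP, cG_ι_assoc]))

theorem loc_PP {T : Scheme.{u}} (c : T ⟶ PP C U₂) (h : (c ≫ ρP C U₂) ≫ G.s = (c ≫ πP C U₂) ≫ C.q) :
    loc C (c ≫ πP C U₂) (c ≫ ρP C U₂) h = ⊤ :=
  (loc_congr C _ (Category.assoc _ _ _).symm (Category.assoc _ _ _).symm).trans (loc_P₀ C (c ≫ (π₀ C ⁻¹ᵁ U₂).ι) (by
    simp only [Category.assoc, ρ₀_s]))

theorem range_τP_V₀ : Set.range (τP C U₂ hle) ⊆ V₀ C := by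
  rintro _ ⟨p, rfl⟩
  have h : (τP C U₂ hle ≫ C.q ≫ G.e) ≫ G.s = τP C U₂ hle ≫ C.q := by
    simp only [Category.assoc, G.e_s, Category.comp_id]
  have h1 := keyP C U₂ hle (𝟙 _) (τP C U₂ hle ≫ C.q ≫ G.e) (by rw [h, Category.id_comp])
  show p ∈ τP C U₂ hle ⁻¹ᵁ V₀ C
  rw [← loc_e C _ h]
  have h2 : loc C (τP C U₂ hle) (τP C U₂ hle ≫ C.q ≫ G.e) h = ⊤ := by
    refine (loc_congr C _ (Category.id_comp _).symm rfl).trans (h1.trans ?_)
    refine (loc_congr C _ rfl ?_).trans (loc_PP C U₂ (𝟙 _) (by simp only [Category.id_comp, ρP_s]))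
    refine (cmp_congr G _ ?_ rfl).trans (G.e_comp _)
    rw [Category.id_comp, τP_q_assoc]
  rw [h2]
  trivial

/-- Composition of composable arrows of the chart. -/
theorem exists_comp {T : Scheme.{u}} (α : T ⟶ P₀ C) (β : T ⟶ PP C U₂) (h : α ≫ π₀ C = β ≫ τP C U₂ hle) :
    ∃ γ : T ⟶ PP C U₂, γ ≫ πP C U₂ = β ≫ πP C U₂ ∧
      γ ≫ ρP C U₂ = cmp G (α ≫ ρ₀ C) (β ≫ ρP C U₂)
        (by rw [Category.assoc, ρ₀_s, reassoc_of% h, τP_q, Category.assoc]) := by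
  have hs : (α ≫ ρ₀ C) ≫ G.s = (β ≫ ρP C U₂) ≫ G.t := by
    rw [Category.assoc, ρ₀_s, reassoc_of% h, τP_q, Category.assoc]
  have h0 : (α ≫ ρ₀ C) ≫ G.s = (β ≫ τP C U₂ hle) ≫ C.q := by rw [hs, Category.assoc, Category.assoc, τP_q]
  have h1 : cmp G (α ≫ ρ₀ C) (β ≫ ρP C U₂) hs ≫ G.s = (β ≫ πP C U₂) ≫ C.q := by
    rw [cmp_s, Category.assoc, ρP_s, Category.assoc]
  have h2 : loc C (β ≫ πP C U₂) (cmp G (α ≫ ρ₀ C) (β ≫ ρP C U₂) hs) h1 = ⊤ :=
    (keyP C U₂ hle β (α ≫ ρ₀ C) h0).symm.trans ((loc_congr C _ h.symm rfl).trans (loc_P₀ C α _))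
  obtain ⟨γ₀, hγπ, hγρ⟩ := exists_lift_P₀ C _ _ _ h2
  have hr : Set.range γ₀ ⊆ Set.range (π₀ C ⁻¹ᵁ U₂).ι := by
    rw [Scheme.Opens.range_ι]
    rintro _ ⟨t, rfl⟩
    show π₀ C (γ₀ t) ∈ U₂
    rw [← Scheme.Hom.comp_apply, hγπ, Scheme.Hom.comp_apply, πP, Scheme.Hom.comp_apply]
    exact ((β t).2 :)
  exact ⟨IsOpenImmersion.lift _ γ₀ hr, (IsOpenImmersion.lift_fac_assoc _ _ _ (π₀ C)).trans hγπ,
    (IsOpenImmersion.lift_fac_assoc _ _ _ (ρ₀ C)).trans hγρ⟩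

/-- Translating twice is translating by the composite. -/
theorem τP_comp {T : Scheme.{u}} (α β γ : T ⟶ PP C U₂) (h : α ≫ πP C U₂ = β ≫ τP C U₂ hle)
    (hγπ : γ ≫ πP C U₂ = β ≫ πP C U₂)
    (hγρ : γ ≫ ρP C U₂ = cmp G (α ≫ ρP C U₂) (β ≫ ρP C U₂)
      (by rw [Category.assoc, ρP_s, reassoc_of% h, τP_q, Category.assoc])) :
    γ ≫ τP C U₂ hle = α ≫ τP C U₂ hle := by
  have hs : (α ≫ ρP C U₂) ≫ G.s = (β ≫ ρP C U₂) ≫ G.t := by
    rw [Category.assoc, ρP_s, reassoc_of% h, τP_q, Category.assoc]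
  refine uniq_loc C _ _ ?_ fun {T'} c r hr => ?_
  · rw [Category.assoc, Category.assoc, τP_q, ← Category.assoc, hγρ, cmp_t, Category.assoc]
  · have hr' : r ≫ G.s = (c ≫ α ≫ ρP C U₂) ≫ G.t := by
      rw [hr, Category.assoc, Category.assoc, τP_q, ← Category.assoc γ, hγρ, cmp_t]; simp only [Category.assoc]
    have e1 := keyP C U₂ hle (c ≫ γ) r (by rw [hr]; simp only [Category.assoc])
    have e2 := keyP C U₂ hle (c ≫ α) r (by rw [hr']; simp only [Category.assoc, τP_q])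
    have hs' : (c ≫ α ≫ ρP C U₂) ≫ G.s = (c ≫ β ≫ ρP C U₂) ≫ G.t := by simp only [Category.assoc] at hs ⊢; rw [hs]
    have h3 : cmp G r (c ≫ α ≫ ρP C U₂) hr' ≫ G.s = ((c ≫ β) ≫ τP C U₂ hle) ≫ C.q := by
      rw [cmp_s, hs']; simp only [Category.assoc, τP_q]
    have e3 := keyP C U₂ hle (c ≫ β) (cmp G r (c ≫ α ≫ ρP C U₂) hr') h3
    refine (loc_congr C _ (Category.assoc _ _ _).symm rfl).trans (e1.trans ?_)
    refine Eq.trans ?_ ((loc_congr C _ (Category.assoc _ _ _).symm rfl).trans e2).symm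
    refine Eq.trans ?_ ((e3.symm.trans (loc_congr C _ (by rw [Category.assoc, Category.assoc, h])
      (cmp_congr G _ rfl (Category.assoc _ _ _).symm))))
    refine loc_congr C _ (by rw [Category.assoc, hγπ, Category.assoc]) ?_
    refine (cmp_congr G _ rfl ((Category.assoc _ _ _).trans (congrArg (c ≫ ·) hγρ) |>.trans (comp_cmp G c _ _ _))).trans ?_
    refine (cmp_assoc G r _ _ hr' hs').symm.trans (cmp_congr G _ rfl (Category.assoc _ _ _).symm)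

/-- The inverse of an arrow of the chart. -/
theorem exists_inv {T : Scheme.{u}} (β : T ⟶ PP C U₂) :
    ∃ γ : T ⟶ P₀ C, γ ≫ π₀ C = β ≫ τP C U₂ hle ∧ γ ≫ ρ₀ C = (β ≫ ρP C U₂) ≫ G.i := by
  have hh : ((β ≫ ρP C U₂) ≫ G.i) ≫ G.s = (β ≫ τP C U₂ hle) ≫ C.q := by
    simp only [Category.assoc, G.i_s, τP_q]
  refine exists_lift_P₀ C _ _ hh ?_
  refine (keyP C U₂ hle β _ hh).trans ?_
  have he : ((β ≫ πP C U₂) ≫ C.q ≫ G.e) ≫ G.s = (β ≫ πP C U₂) ≫ C.q := by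
    simp only [Category.assoc, G.e_s, Category.comp_id]
  refine (loc_congr C _ rfl ((G.i_comp (β ≫ ρP C U₂)).trans ?_)).trans ((loc_e C _ he).trans ?_)
  · simp only [Category.assoc, ρP_s_assoc]
  · refine top_le_iff.1 fun t _ => ?_
    show (β ≫ πP C U₂) t ∈ V₀ C
    rw [Scheme.Hom.comp_apply, πP, Scheme.Hom.comp_apply]
    exact ((mem_U₁ C _).1 (hle (β t).2)).1

/-- Translation maps the good points of the chart to good points. -/
theorem range_τP_U₁ : Set.range (τP C U₂ hle) ⊆ U₁ C := by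
  rintro _ ⟨p, rfl⟩
  refine (mem_U₁ C _).2 ⟨range_τP_V₀ C U₂ hle ⟨p, rfl⟩, fun p'' hp'' => ?_⟩
  let Q := pullback (π₀ C) (τP C U₂ hle)
  obtain ⟨γ, hγπ, hγρ⟩ := exists_comp C U₂ hle (pullback.fst (π₀ C) (τP C U₂ hle))
    (pullback.snd (π₀ C) (τP C U₂ hle)) pullback.condition
  obtain ⟨z, hz, -⟩ := Scheme.Pullback.exists_preimage_pullback (f := π₀ C) (g := τP C U₂ hle) p'' p hp''
  refine range_subset_G₀ C (pullback.fst (π₀ C) (τP C U₂ hle)) (γ ≫ τP C U₂ hle) ?_ ?_ ⟨z, hz⟩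
  · rw [Category.assoc, τP_q, ← Category.assoc, hγρ, cmp_t, Category.assoc]
  · intro T' d r hr
    have hs : (pullback.fst (π₀ C) (τP C U₂ hle) ≫ ρ₀ C) ≫ G.s =
        (pullback.snd (π₀ C) (τP C U₂ hle) ≫ ρP C U₂) ≫ G.t := by
      rw [Category.assoc, ρ₀_s, pullback.condition_assoc, τP_q, Category.assoc]
    have hs' : (d ≫ pullback.fst (π₀ C) (τP C U₂ hle) ≫ ρ₀ C) ≫ G.s =
        (d ≫ pullback.snd (π₀ C) (τP C U₂ hle) ≫ ρP C U₂) ≫ G.t := by
      simp only [Category.assoc] at hs ⊢; rw [hs]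
    have hr' : r ≫ G.s = (d ≫ pullback.fst (π₀ C) (τP C U₂ hle) ≫ ρ₀ C) ≫ G.t := by
      rw [hr, Category.assoc, Category.assoc, τP_q, ← Category.assoc γ, hγρ, cmp_t]; simp only [Category.assoc]
    have h3 : cmp G r (d ≫ pullback.fst (π₀ C) (τP C U₂ hle) ≫ ρ₀ C) hr' ≫ G.s =
        ((d ≫ pullback.snd (π₀ C) (τP C U₂ hle)) ≫ τP C U₂ hle) ≫ C.q := by
      rw [cmp_s, hs']; simp only [Category.assoc, τP_q]
    have e3 := keyP C U₂ hle (d ≫ pullback.snd _ _) _ h3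
    refine (loc_congr C _ (Category.assoc _ _ _).symm rfl).trans
      ((keyP C U₂ hle (d ≫ γ) r (by rw [hr]; simp only [Category.assoc])).trans ?_)
    refine Eq.trans ?_ (e3.symm.trans (loc_congr C _ (by rw [Category.assoc, Category.assoc, pullback.condition])
      (cmp_congr G _ rfl (Category.assoc _ _ _).symm)))
    refine loc_congr C _ (by rw [Category.assoc, hγπ, Category.assoc]) ?_
    refine (cmp_congr G _ rfl ((Category.assoc _ _ _).trans (congrArg (d ≫ ·) hγρ) |>.trans (comp_cmp G d _ _ _))).trans ?_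
    refine (cmp_assoc G r _ _ hr' hs').symm.trans (cmp_congr G _ rfl (Category.assoc _ _ _).symm)

end

end GrothLib.GrpdSplit13
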